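import Cfsg.Agent.Lib.HNRec.Cz.CzFacts
import Mathlib.GroupTheory.Subgroup.Center

/-!
# The endgame with an odd centralised factor

A simple group contains the presented group and an odd subgroup commuting with it, and the centraliser of
`x ^ 2` is the product of `⟨x, y, z⟩` with that subgroup: then it is the presented group.
-/

set_option autoImplicit false
set_option linter.style.haveILetI false

namespace CfsgLib.HNStd

open CfsgLib.HNRec CfsgLib.HNIndex
open Cfsg.Spor (HN)

variable {G : Type} [Group G]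

/-- The products of an element of the image and one of the commuting subgroup. -/
def prodGrp (f : Cfsg.Spor.HN →* G) (D : Subgroup G) (hDc : ∀ d ∈ D, ∀ u, Commute (f u) d) : Subgroup G where
  carrier := {g | ∃ w, ∃ d ∈ D, f w * d = g}
  one_mem' := ⟨1, 1, one_mem _, by simp⟩
  mul_mem' := by
    rintro _ _ ⟨v, c, hc, rfl⟩ ⟨w, d, hd, rfl⟩
    refine ⟨v * w, c * d, mul_mem hc hd, ?_⟩
    rw [map_mul, mul_assoc, ← mul_assoc (f w), (hDc c hc w).eq]
    group
  inv_mem' := by
    rintro _ ⟨w, d, hd, rfl⟩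
    exact ⟨w⁻¹, d⁻¹, inv_mem hd, by rw [mul_inv_rev, map_inv, ((hDc d hd w).inv_inv).eq]⟩

theorem prodGrp_eq (f : Cfsg.Spor.HN →* G) (D : Subgroup G) (hDc : ∀ d ∈ D, ∀ u, Commute (f u) d) :
    prodGrp f D hDc = f.range ⊔ D := by
  refine le_antisymm ?_ (sup_le ?_ ?_)
  · rintro _ ⟨w, d, hd, rfl⟩
    exact mul_mem (Subgroup.mem_sup_left ⟨w, rfl⟩) (Subgroup.mem_sup_right hd)
  · rintro _ ⟨w, rfl⟩
    exact ⟨w, 1, one_mem _, mul_one _⟩
  · exact fun d hd => ⟨1, d, hd, by simp⟩

theorem eq_one_of_odd {D : Subgroup G} (hodd : Odd (Nat.card D)) {d : G} (hd : d ∈ D) (dd : d * d = 1) :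
    d = 1 := by
  have h1 : orderOf d ∣ 2 := orderOf_dvd_of_pow_eq_one (by rw [pow_two]; exact dd)
  have h2 : orderOf d ∣ Nat.card D := by
    rw [← Subgroup.orderOf_mk d hd]
    exact orderOf_dvd_natCard _
  rcases (Nat.dvd_prime Nat.prime_two).1 h1 with e | e
  · exact orderOf_eq_one_iff.1 e
  · rw [e] at h2
    exact absurd (even_iff_two_dvd.2 h2) (Nat.not_even_iff_odd.2 hodd)

theorem central_eq_one {u : Cfsg.Spor.HN} (h : ∀ v, Commute v u) : u = 1 := by
  haveI : IsSimpleGroup Cfsg.Spor.HN := CfsgLib.HNIndex.hn_isHN.1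
  have hu : u ∈ Subgroup.center Cfsg.Spor.HN := Subgroup.mem_center_iff.2 fun v => (h v).eq
  rcases (inferInstance : (Subgroup.center Cfsg.Spor.HN).Normal).eq_bot_or_eq_top with e | e
  · rwa [e, Subgroup.mem_bot] at hu
  · exfalso
    have h1 : (gX : Cfsg.Spor.HN) * gX ∈ Subgroup.center Cfsg.Spor.HN := e ▸ Subgroup.mem_top _
    have hall : Subgroup.centralizer ({gT} : Set Cfsg.Spor.HN) = ⊤ :=
      eq_top_iff.2 fun v _ => Subgroup.mem_centralizer_singleton_iff.2 (Subgroup.mem_center_iff.1 h1 v)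
    rw [Cz.centraliser_gT] at hall
    have hi := index_eq
    rw [hall, Subgroup.index_top] at hi
    exact absurd hi (by norm_num)

section
variable {f : Cfsg.Spor.HN →* G} {D : Subgroup G}

theorem meet_trivial (hf : Function.Injective f) (hDc : ∀ d ∈ D, ∀ u, Commute (f u) d) {u : Cfsg.Spor.HN}
    (h : f u ∈ D) : u = 1 := by
  refine central_eq_one fun v => hf ?_
  rw [map_mul, map_mul]
  exact (hDc _ h v).eq

/-- An involution of the product lies in the image. -/
theorem inv_mem_range (hf : Function.Injective f) (hodd : Odd (Nat.card D))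
    (hDc : ∀ d ∈ D, ∀ u, Commute (f u) d) {g : G} (hg : g ∈ prodGrp f D hDc) (gg : g * g = 1) :
    ∃ w, f w = g := by
  obtain ⟨w, d, hd, rfl⟩ := hg
  have e : f (w * w) * (d * d) = 1 := by
    rw [map_mul, ← gg]
    calc f w * f w * (d * d) = f w * (f w * d) * d := by group
      _ = f w * (d * f w) * d := by rw [(hDc d hd w).eq]
      _ = f w * d * (f w * d) := by group
  have hw : f (w * w) ∈ D := by
    rw [eq_inv_of_mul_eq_one_left e]
    exact inv_mem (mul_mem hd hd)
  rw [meet_trivial hf hDc hw, map_one, one_mul] at e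
  exact ⟨w, by rw [eq_one_of_odd hodd hd e, mul_one]⟩

/-- The product is everything. -/
theorem end_top [Finite G] [IsSimpleGroup G] (hf : Function.Injective f) (hodd : Odd (Nat.card D))
    (hDc : ∀ d ∈ D, ∀ u, Commute (f u) d)
    (hC : Subgroup.centralizer ({f gT} : Set G) = hnSub.map f ⊔ D) : f.range ⊔ D = ⊤ := by
  have F := Cz.czFacts Cz.centraliser_gT
  have C := Cz.twoClasses
  set s := Cz.sE
  rw [← prodGrp_eq f D hDc]
  set X := prodGrp f D hDc with hX
  set t0 := f gT with ht0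
  set z := f s with hz
  have tt : t0 * t0 = 1 := by rw [← map_mul, ← pow_two, ← C.t_order, pow_orderOf_eq_one, map_one]
  have zz : z * z = 1 := by rw [← map_mul, ← pow_two, ← C.s_order, pow_orderOf_eq_one, map_one]
  have hrX : ∀ w, f w ∈ X := fun w => ⟨w, 1, one_mem _, mul_one _⟩
  have hCX : Subgroup.centralizer {t0} ≤ X := by
    rw [hC]
    refine sup_le ?_ fun d hd => ⟨1, d, hd, by simp⟩
    rintro _ ⟨u, -, rfl⟩
    exact hrX u
  have hnotz : ¬ IsConj t0 z := by
    intro h
    obtain ⟨g, hg⟩ := isConj_iff.1 h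
    have hmap : (Subgroup.centralizer ({s} : Set Cfsg.Spor.HN)).map f ≤
        (Subgroup.centralizer ({t0} : Set G)).map (MulAut.conj g).toMonoidHom := by
      rintro _ ⟨u, hu, rfl⟩
      refine ⟨g⁻¹ * f u * g, Subgroup.mem_centralizer_singleton_iff.2 ?_, by
        show g * (g⁻¹ * f u * g) * g⁻¹ = f u; group⟩
      have e : f u * z = z * f u := by
        rw [hz, ← map_mul, Subgroup.mem_centralizer_singleton_iff.1 hu, map_mul]
      have et : t0 = g⁻¹ * z * g := by rw [← hg]; group
      rw [et]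
      calc g⁻¹ * f u * g * (g⁻¹ * z * g) = g⁻¹ * (f u * z) * g := by group
        _ = g⁻¹ * z * g * (g⁻¹ * f u * g) := by rw [e]; group
    have h1 := Subgroup.card_dvd_of_le hmap
    rw [Subgroup.card_map_of_injective hf, Subgroup.card_map_of_injective (MulAut.conj g).injective] at h1
    have hcard : Nat.card (Subgroup.centralizer ({t0} : Set G)) = 177408000 * Nat.card D := by
      let e : hnSub × D → Subgroup.centralizer ({t0} : Set G) := fun p =>
        ⟨f p.1.1 * p.2.1, by
          rw [hC]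
          exact mul_mem (Subgroup.mem_sup_left ⟨p.1.1, p.1.2, rfl⟩) (Subgroup.mem_sup_right p.2.2)⟩
      have he : Function.Bijective e := by
        refine ⟨?_, fun g => ?_⟩
        · rintro ⟨u, c⟩ ⟨v, d⟩ h
          have h' : f u.1 * c.1 = f v.1 * d.1 := congrArg Subtype.val h
          have hm : f (v.1⁻¹ * u.1) ∈ D := by
            rw [map_mul, map_inv, show (f v.1)⁻¹ * f u.1 = (f v.1)⁻¹ * (f u.1 * c.1) * c.1⁻¹ by group, h',
              inv_mul_cancel_left]
            exact mul_mem d.2 (inv_mem c.2)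
          have euv := inv_mul_eq_one.1 (meet_trivial hf hDc hm)
          rw [euv] at h'
          exact Prod.ext (Subtype.ext euv.symm) (Subtype.ext (mul_left_cancel h'))
        · have hle : hnSub.map f ⊔ D ≤ (prodGrp (f := f) D hDc) := sup_le
            (by rintro _ ⟨u, -, rfl⟩; exact hrX u) fun d hd => ⟨1, d, hd, by simp⟩
          obtain ⟨w, d, hd, ew⟩ := hle (hC.le g.2)
          have hw : w ∈ hnSub := by
            rw [← Cz.centraliser_gT, Subgroup.mem_centralizer_singleton_iff]
            refine hf ?_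
            have hg' := Subgroup.mem_centralizer_singleton_iff.1 g.2
            rw [← ew] at hg'
            rw [map_mul f w gT, map_mul f gT w, ← ht0]
            refine mul_right_cancel (b := d) ?_
            calc f w * t0 * d = f w * d * t0 := by rw [mul_assoc, (hDc d hd gT).eq, ← mul_assoc]
              _ = t0 * f w * d := by rw [hg', mul_assoc]
          exact ⟨(⟨w, hw⟩, ⟨d, hd⟩), Subtype.ext ew⟩
      rw [← Nat.card_congr (Equiv.ofBijective e he), Nat.card_prod, hnSub_card]
    rw [hcard] at h1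
    have hco : Nat.Coprime (2 ^ 12) (Nat.card D) :=
      Nat.Coprime.pow_left _ (Nat.coprime_two_left.2 hodd)
    exact absurd (hco.dvd_of_dvd_mul_right (C.two_part.trans h1)) (by norm_num)
  have ot : orderOf t0 = 2 := (orderOf_injective f hf gT).trans C.t_order
  have in_range : ∀ {r : G}, r ∈ X → orderOf r = 2 → ∃ w, f w = r ∧ (IsConj w gT ∨ IsConj w s) := by
    intro r hr ho
    obtain ⟨w, rfl⟩ := inv_mem_range hf hodd hDc hr (by rw [← pow_two, ← ho, pow_orderOf_eq_one])
    exact ⟨w, rfl, C.cls w (by rwa [orderOf_injective f hf] at ho)⟩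
  have hfus : ∀ g : G, g * t0 * g⁻¹ ∈ X → ∃ x ∈ X, x * t0 * x⁻¹ = g * t0 * g⁻¹ := by
    intro g hg
    obtain ⟨w, hw, h | h⟩ := in_range hg (by rw [← MulAut.conj_apply, MulEquiv.orderOf_eq, ot])
    · obtain ⟨v, hv⟩ := isConj_iff.1 h.symm
      exact ⟨f v, hrX v, by rw [ht0, ← map_inv, ← map_mul, ← map_mul, hv, hw]⟩
    · exact absurd ((isConj_iff.2 ⟨g, hw.symm⟩ : IsConj t0 (f w)).trans (MonoidHom.map_isConj f h)) hnotz
  have ctrl := Ctrl.of_fusion tt hCX hfus
  have hzH : ∀ {u : Cfsg.Spor.HN}, Commute u s → f u ∈ Subgroup.centralizer ({z} : Set G) := fun hu =>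
    Subgroup.mem_centralizer_singleton_iff.2 (hu.map f).eq
  have hback : ∀ {u : Cfsg.Spor.HN}, f u ∈ Subgroup.centralizer ({z} : Set G) → Commute u s := fun hu =>
    hf (by rw [map_mul, map_mul]; exact Subgroup.mem_centralizer_singleton_iff.1 hu)
  have hzpow : ∀ {u : Cfsg.Spor.HN}, u ∈ Subgroup.zpowers s → f u ∈ Subgroup.zpowers z := by
    rintro _ ⟨i, rfl⟩
    exact ⟨i, by simp [hz]⟩
  have Fr : Frame {a | ∃ g : G, g * t0 * g⁻¹ = a} X (Subgroup.centralizer {z}) (Subgroup.zpowers z) Cz.tabs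
      (f ∘ Cz.el) (f ∘ Cz.gl) :=
    { ctrl := ctrl
      E0X := Subgroup.zpowers_le.2 (hrX s)
      E0H := Subgroup.zpowers_le.2 (Subgroup.mem_centralizer_singleton_iff.2 rfl)
      cen := by
        rintro _ ⟨i, rfl⟩ g hg
        exact (show Commute z g from (Subgroup.mem_centralizer_singleton_iff.1 hg).symm).zpow_left i
      el_mem := fun i hi => by
        obtain ⟨h1, h2⟩ := F.el_mem i hi
        obtain ⟨g, hg⟩ := isConj_iff.1 h1
        exact ⟨⟨f g, by rw [ht0, ← map_inv, ← map_mul, ← map_mul, hg]; rfl⟩, hrX _, hzH h2⟩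
      complete := by
        rintro _ ⟨g, rfl⟩ hX' haH
        obtain ⟨w, hw, h | h⟩ := in_range hX' (by rw [← MulAut.conj_apply, MulEquiv.orderOf_eq, ot])
        · rw [← hw] at haH
          obtain ⟨i, hi, e⟩ := F.complete w h.symm (hback haH)
          exact ⟨i, hi, (congrArg f e).trans hw⟩
        · exact absurd ((isConj_iff.2 ⟨g, hw.symm⟩ : IsConj t0 (f w)).trans (MonoidHom.map_isConj f h)) hnotz
      inj := fun i hi j hj e => F.inj i hi j hj (hf e)
      gv_mem := fun i hi g hg => by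
        obtain ⟨h1, h2⟩ := F.gv_mem i hi g hg
        refine ⟨hzH h1, fun x hx => ⟨(h2 x hx).1, ?_⟩⟩
        show f (Cz.gl g) * f (Cz.el x) * (f (Cz.gl g))⁻¹ = f (Cz.el (Cz.tabs.act g x))
        rw [← map_inv, ← map_mul, ← map_mul, (h2 x hx).2]
      word_eq := fun i hi => by
        rw [List.comp_map, ← map_list_prod, Function.comp_apply, ← map_inv, ← map_mul]
        exact hzpow (F.word_eq i hi)
      base_lt := F.base_lt
      faith := by
        intro g hH hg hb
        have hle : Subgroup.closure ((f ∘ Cz.el) '' Set.Iio Cz.tabs.N) ≤ f.range :=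
          (Subgroup.closure_le _).2 (Set.image_subset_iff.2 fun i _ => ⟨Cz.el i, rfl⟩)
        obtain ⟨w, rfl⟩ := hle hg
        refine hzpow (F.faith w (hback hH) fun b hb' => hf ?_)
        rw [map_mul, map_mul]
        exact (hb b hb').eq }
  obtain ⟨hN, hB, hW, hA⟩ := Cz.agrees_spec Cz.agrees_model
  have hz_le : Subgroup.centralizer {z} ≤ X := by
    exact (Fr.congr (T' := Model.tabs) (m := 5) hN hB (fun i hi => hW i hi)
      (fun i hi g hg => Cz.ptWord_lt hi g hg) fun g hg x hx => hA x hx g hg).le_of_root Model.tree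
        Model.tree_checked
  have ne1 : z ≠ 1 := fun h => by
    have := (orderOf_injective f hf s).trans C.s_order
    rw [← hz, h, orderOf_one] at this
    omega
  refine eq_top_of_classes (a := t0) (b := z) (hrX gT) (hrX s) ne1 tt zz hnotz hCX hz_le ?_
  intro r hr rr r1
  obtain ⟨w, rfl, h | h⟩ := in_range hr (orderOf_eq_prime (by rw [pow_two]; exact rr) r1) <;>
    obtain ⟨v, hv⟩ := isConj_iff.1 h
  · exact ⟨f v, hrX v, Or.inl (by rw [ht0, ← map_inv, ← map_mul, ← map_mul, hv])⟩
  · exact ⟨f v, hrX v, Or.inr (by rw [hz, ← map_inv, ← map_mul, ← map_mul, hv])⟩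

/-- The presented group is everything and the odd subgroup is trivial. -/
theorem end_onto [Finite G] [IsSimpleGroup G] (hf : Function.Injective f) (hodd : Odd (Nat.card D))
    (hDc : ∀ d ∈ D, ∀ u, Commute (f u) d)
    (hC : Subgroup.centralizer ({f gT} : Set G) = hnSub.map f ⊔ D) : f.range = ⊤ ∧ D = ⊥ := by
  have htop := end_top hf hodd hDc hC
  rw [← prodGrp_eq f D hDc] at htop
  have hne : f gT ≠ 1 := fun h => by
    have := (orderOf_injective f hf gT).trans Cz.twoClasses.t_order
    rw [h, orderOf_one] at this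
    omega
  have hn : f.range.Normal := ⟨by
    rintro _ ⟨u, rfl⟩ g
    obtain ⟨w, d, hd, rfl⟩ : g ∈ prodGrp f D hDc := htop ▸ Subgroup.mem_top g
    exact ⟨w * u * w⁻¹, by
      rw [map_mul, map_mul, map_inv, mul_inv_rev, show f w * d * f u * (d⁻¹ * (f w)⁻¹) =
        f w * (d * f u * d⁻¹) * (f w)⁻¹ by group, ← (hDc d hd u).eq, mul_inv_cancel_right]⟩⟩
  have hr : f.range = ⊤ := hn.eq_bot_or_eq_top.resolve_left fun e =>
    hne (Subgroup.mem_bot.1 (e ▸ ⟨gT, rfl⟩ : f gT ∈ (⊥ : Subgroup G)))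
  refine ⟨hr, (Subgroup.eq_bot_iff_forall D).2 fun d hd => ?_⟩
  obtain ⟨u, rfl⟩ : d ∈ f.range := hr ▸ Subgroup.mem_top d
  rw [meet_trivial hf hDc hd, map_one]

end

end CfsgLib.HNStd
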