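import Cfsg.Agent.Lib.HNRec.Fusion.TwistChecks

/-!
# The checks on the even half of the Sylow subgroup
-/

set_option autoImplicit false
set_option maxRecDepth 100000

namespace CfsgLib.HNStd.Fused

open CfsgLib.HNxyz CfsgLib.HNIndex CfsgLib.HNRec.Fusion

/-- The number of roots of a representative in the even half. -/
def evenRoots (r : ℕ) : ℕ :=
  let k := kW (repW r)
  ((List.range 2048).filter fun i => !oddAt i && beqL (sqKey i) k).length

theorem even_checks :
    ((List.range 2048).filter fun i => !oddAt i).length = 1024 ∧
    evenRoots 0 = 80 ∧ evenRoots 1 = 48 ∧ evenRoots 2 = 64 ∧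
    ([2, 4] : List ℕ).all (fun g => beqL (kW [g, 0, 0]) (kW [0, 0, g])) = true := by
  decide +kernel

end CfsgLib.HNStd.Fused
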