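import Cfsg.Agent.Lib.HNStd.EngineData
import Cfsg.Agent.Lib.HNStd.FusedChecks
import Cfsg.Agent.Lib.HNxyz.Perms
import Cfsg.Agent.Lib.HSEndgame.Checks

/-!
# Kernel checks for the engine of the Higman-Sims standard subgroup
-/

set_option autoImplicit false
set_option maxRecDepth 100000
set_option maxHeartbeats 2000000
set_option Elab.async false

namespace CfsgLib.HNStd.Eng

open CfsgLib.Golay CfsgLib.HNxyz CfsgLib.HNIndex CfsgLib.HNRec.Fusion

/-- The word of a representative. -/
def wW (j : ℕ) : List ℕ := yW j ++ baseW j ++ HNIndex.invW (yW j)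

/-- The conjugate word of the first element of order three. -/
def bW : List ℕ := cW ++ aW ++ HNIndex.invW cW

/-- The commutator word of a witness. -/
def wlW (j : ℕ) : List ℕ := wW j ++ lW j ++ HNIndex.invW (wW j) ++ HNIndex.invW (lW j)

/-- Equality of codes on all the points. -/
noncomputable def eqC (u v : ℕ) : Bool :=
  (List.range 100).all fun i => HSEndgame.O.img u i == HSEndgame.O.img v i

/-- A code fixes some point. -/
noncomputable def hasFix (u : ℕ) : Bool := (List.range 100).any fun i => HSEndgame.O.img u i == i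

/-- Two codes commute. -/
noncomputable def comm2 (u v : ℕ) : Bool := eqC (HSEndgame.O.mul u v) (HSEndgame.O.mul v u)

/-- A power of a code. -/
noncomputable def powC (u : ℕ) : ℕ → ℕ
  | 0 => HSEndgame.O.one
  | k + 1 => HSEndgame.O.mul u (powC u k)

/-- The test that a listed element is no involution with a fixed point commuting with a representative
and the second element of order three. -/
noncomputable def filtB (j : ℕ) (c : ℕ) : Bool :=
  eqC c HSEndgame.O.one || !eqC (HSEndgame.O.mul c c) HSEndgame.O.one || !hasFix c ||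
    !comm2 c (codeW (wW j)) || !comm2 c (codeW (fW j)) || (Nat.beq j 1 && eqC c (codeW (wW 1)))

/-- The centraliser of the first representative and the element of order three. -/
noncomputable def cFortyEight : List ℕ :=
  (eList ++ eList.map fun c => HSEndgame.O.mul c (codeW oW)).filter fun c => comm2 c (codeW (wW 1))

theorem word_checks :
    ([1, 2, 3, 4].all fun j => okW (wW j) && okW (fW j) && okW (yW j) && okW (baseW j) &&
      Nat.beq (zc (yW j) % 2) 0 && Nat.beq (zc (fW j) % 2) 0) = true ∧
    ([2, 3, 4].all fun j => okW (lW j) && okW (uW j) && okW (vW j) && okW (wlW j) &&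
      Nat.beq (zc (lW j) % 2) 0 && Nat.beq (zc (uW j) % 2) 0 && Nat.beq (zc (vW j) % 2) 0) = true ∧
    ([aW, cW, dW, bW].all fun w => okW w && Nat.beq (zc w % 2) 0) = true ∧
    (okW oW && Nat.beq (zc oW % 2) 1 && Nat.beq (zc (wW 1) % 2) 0 && Nat.beq (zc (wW 2) % 2) 0 &&
      Nat.beq (zc (wW 3) % 2) 1 && Nat.beq (zc (wW 4) % 2) 1) = true ∧
    (baseW 1 = repW 1 ∧ baseW 2 = [0] ∧ baseW 3 = repW 3 ∧ baseW 4 = repW 4 ∧ yW 1 = []) := by
  decide +kernel

theorem mo_checks :
    ([2, 3, 4].all fun j =>
      beqL (kW (wW j ++ uW j)) (kW (uW j ++ wW j)) && beqL (kW (wW j ++ vW j)) (kW (vW j ++ wW j)) &&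
      beqL (kW (uW j ++ uW j ++ uW j)) base && beqL (kW (vW j ++ vW j ++ vW j)) base &&
      beqL (kW (wlW j)) (kW (uW j ++ vW j ++ (uW j ++ vW j))) && !beqL (kW (wlW j)) base) = true ∧
    ([1, 2, 3, 4].all fun j => beqL (kW (fW j ++ fW j ++ fW j)) base) = true ∧
    beqL (kW (wW 1 ++ wW 1)) base = true ∧
    beqL (kW (wW 1 ++ aW)) (kW (aW ++ wW 1)) = true ∧
    beqL (kW (wW 1 ++ cW)) (kW (cW ++ wW 1)) = true ∧
    beqL (kW (wW 1 ++ dW)) (kW (dW ++ wW 1)) = true ∧
    beqL (kW (wW 1 ++ fW 1)) (kW (fW 1 ++ wW 1)) = true ∧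
    beqL (kW (aW ++ aW ++ aW)) base = true ∧
    beqL (kW (aW ++ bW ++ (aW ++ bW))) (kW [0, 0]) = true ∧
    ((List.range 2048).all fun i => !(oddAt i && beqL (sqKey i) (kW (repW 0)))) = true := by
  decide +kernel

theorem fix_checks : hasFix (codeW (wW 1)) = true ∧ hasFix (codeW (wW 2)) = false ∧
    hasFix HSEndgame.codeA = true ∧ hasFix HSEndgame.codeB = false := by decide +kernel

theorem e_ok : Bsgs.check HSEndgame.O [] eLevels = true ∧
    (eLevels.map fun l => l.reps.length).prod = 44352000 ∧
    (List.range (Bsgs.allGens eLevels).length).all (fun k =>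
      HSEndgame.el (eIdx.getD k []) == (Bsgs.allGens eLevels).getD k 0) = true := by
  refine ⟨?_, ?_, ?_⟩ <;> decide +kernel

theorem e_cent : Bsgs.centCheck HSEndgame.O (codeW aW) eList [] [] HSEndgame.O.one eLevels = true := by
  decide +kernel

theorem list_ok : (eList.all fun c => HSEndgame.O.ok c) = true := by decide +kernel

theorem comm_checks : ([1, 2, 3, 4].all fun j => comm2 (codeW aW) (codeW (wW j))) = true ∧
    ([1, 2, 3, 4].all fun j => comm2 (codeW (fW j)) (codeW (wW j))) = true ∧
    comm2 (codeW oW) (codeW aW) = true ∧ comm2 (codeW oW) (codeW (wW 1)) = true := by decide +kernel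

theorem filt_checks : ([1, 2, 3, 4].all fun j => eList.all (filtB j)) = true := by decide +kernel

theorem cube_checks : (eList.all fun c => !comm2 c (codeW (wW 1)) ||
    !eqC (powC c 3) HSEndgame.O.one || eqC c HSEndgame.O.one || eqC c (codeW aW) ||
      eqC c (HSEndgame.O.mul (codeW aW) (codeW aW))) = true := by decide +kernel

theorem pow_checks : (cFortyEight.all fun c => eqC (powC c 12) HSEndgame.O.one) = true := by decide +kernel

theorem root_checks :
    ((cFortyEight.filter fun c => eqC (HSEndgame.O.mul c c) (codeW (wW 1))).all fun c =>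
      ((cFortyEight.filter fun d => eqC (HSEndgame.O.mul d d) (codeW (wW 1))).all fun d => comm2 c d) &&
      (!comm2 c (codeW (fW 1)) || !comm2 c (codeW dW))) = true := by decide +kernel

theorem noroot_checks : ((HSEndgame.elems HSEndgame.O HSEndgame.uLevels).all fun c =>
    !eqC (HSEndgame.O.mul c c) HSEndgame.codeB) = true := by decide +kernel

end CfsgLib.HNStd.Eng
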