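import Cfsg.Agent.Lib.HNStd.Fused

/-!
# What the engine delivers about the centraliser of an involution

`Local t`: a cover of HS is normalised by the centraliser of `t`, its centraliser there is cyclic of order
two or four, and a commuting conjugate of `t` lies in it.
-/

set_option autoImplicit false

namespace CfsgLib.HNStd.Eng

open CfsgLib.HNRec CfsgLib.HNStd.Fused

/-- Conjugation of the double cover by an element of the group of triples. -/
noncomputable def cjN (m : Mo) (n : moN) : moN := ⟨m * n * m⁻¹, mo.normal_N.conj_mem _ n.2 m⟩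

theorem coe_cjN (m : Mo) (n : moN) : (cjN m n : Mo) = m * n * m⁻¹ := rfl

/-- An element acts on the image of the double cover as an element of the group of triples does. -/
def Acts {G : Type*} [Group G] (e : moN →* G) (x : G) (m : Mo) : Prop :=
  ∀ n : moN, x * e n * x⁻¹ = e (cjN m n)

/-- The local situation at an involution. -/
structure Local {H : Type} [Group H] (t : H) : Prop where
  ord : orderOf t = 2
  cover : ∃ (e : moN →* H) (k : H), Function.Injective e ∧ e tN = t ∧
    (∀ x ∈ Subgroup.centralizer ({t} : Set H), ∃ m : Mo, Acts e x m) ∧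
    Subgroup.centralizer ({t} : Set H) ⊓ Subgroup.centralizer (e.range : Set H) = Subgroup.zpowers k ∧
    (k = t ∨ (k * k = t ∧ ∃ x ∈ Subgroup.centralizer ({t} : Set H), x * k * x⁻¹ = k⁻¹)) ∧
    ((e.range ⊔ Subgroup.zpowers k).relIndex (Subgroup.centralizer ({t} : Set H)) = 1 ∨
      (e.range ⊔ Subgroup.zpowers k).relIndex (Subgroup.centralizer ({t} : Set H)) = 2) ∧
    ∃ g : H, Commute t (g * t * g⁻¹) ∧ g * t * g⁻¹ ≠ t ∧ g * t * g⁻¹ ∈ e.range ∧ g⁻¹ * t * g ∈ e.range

end CfsgLib.HNStd.Eng
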