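import Cfsg.Agent.Lib.HNStd.EngineDefs
import Cfsg.Prelude.Def_Local

/-!
# A standard subgroup that is the double cover of HS: the action of the centraliser of the involution
-/

set_option autoImplicit false
set_option linter.style.haveILetI false
set_option linter.unusedVariables false

namespace CfsgLib.HNStd.Eng

open CfsgLib.HNRec CfsgLib.HNxyz CfsgLib.HNStd.Fused CfsgLib.Golay Subgroup

variable {G : Type} [Group G]

theorem phi_tN : mo.φ (tN : Mo) = 1 := MonoidHom.mem_ker.1 mo.ker_eq.2

theorem phi_mem (m : Mo) : mo.φ m ∈ HS.graphAut := mo.range_eq ▸ ⟨m, rfl⟩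

theorem mem_moN_iff (m : Mo) : m ∈ moN ↔ mo.φ m ∈ HS.hsGroup := Iff.rfl

theorem tN_ne : (tN : moN) ≠ 1 := fun h => mo.sq_ne (congrArg Subtype.val h)

theorem tN_mem_center : tN ∈ center moN :=
  mem_center_iff.2 fun m => Subtype.ext (tN_central (m : Mo)).eq

/-- The kernel of the permutation action on the double cover. -/
theorem phi_eq_one {n : moN} : mo.φ (n : Mo) = 1 ↔ n = 1 ∨ n = tN := by
  haveI : Finite Mo := mo.finite
  refine ⟨fun h => ?_, fun h => ?_⟩
  · by_contra hne
    push Not at hne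
    have hn : n ∈ mo.σ.ker := mo.mem_ker_σ.2 h
    have ht : tN ∈ mo.σ.ker := mo.mem_ker_σ.2 phi_tN
    have h2 := mo.ker_eq.1
    rw [Nat.card_eq_two_iff' (1 : mo.σ.ker)] at h2
    obtain ⟨u, -, hu⟩ := h2
    have e1 := hu ⟨n, hn⟩ fun e => hne.1 (congrArg Subtype.val e)
    have e2 := hu ⟨tN, ht⟩ fun e => tN_ne (congrArg Subtype.val e)
    exact hne.2 (congrArg Subtype.val (e1.trans e2.symm))
  · rcases h with rfl | rfl
    · exact map_one mo.φ
    · exact phi_tN

theorem eq_or_of_phi {a b : moN} (h : mo.φ (a : Mo) = mo.φ (b : Mo)) : a = b ∨ a = tN * b := by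
  have h1 : mo.φ ((a * b⁻¹ : moN) : Mo) = 1 := by
    rw [Subgroup.coe_mul, Subgroup.coe_inv, map_mul, map_inv, h, mul_inv_cancel]
  rcases phi_eq_one.1 h1 with e | e
  · exact Or.inl (mul_inv_eq_one.1 e)
  · exact Or.inr (mul_inv_eq_iff_eq_mul.1 e)

theorem eq_of_cube {a b : moN} (ha : a ^ 3 = 1) (hb : b ^ 3 = 1) (h : mo.φ (a : Mo) = mo.φ (b : Mo)) :
    a = b := by
  rcases eq_or_of_phi h with e | e
  · exact e
  · exfalso
    have hc : Commute tN b := (mem_center_iff.1 tN_mem_center b).symm
    have htt : tN * tN = (1 : moN) := by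
      rcases phi_eq_one.1 (show mo.φ ((tN * tN : moN) : Mo) = 1 by
        rw [Subgroup.coe_mul, map_mul, phi_tN, one_mul]) with h' | h'
      · exact h'
      · exact absurd (mul_eq_left.1 h') tN_ne
    rw [e, hc.mul_pow, hb, mul_one, pow_succ, pow_two, htt, one_mul] at ha
    exact tN_ne ha

/-- What is used of the standard subgroup. -/
structure Setting (e : moN →* G) : Prop where
  inj : Function.Injective e
  cent : ∀ x : G, Commute x (e tN) → x ∈ normalizer (e.range : Set G)
  tight : ∀ g k : G, k ∈ centralizer (e.range : Set G) → g * k * g⁻¹ ∈ centralizer (e.range : Set G) →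
    k * k = 1 → k ≠ 1 → Commute g (e tN)
  ncomm : ¬ IsMulCommutative G

namespace Setting

variable {e : moN →* G}

theorem tt (S : Setting e) : e tN * e tN = 1 := by
  have h : mo.φ ((tN * tN : moN) : Mo) = 1 := by rw [Subgroup.coe_mul, map_mul, phi_tN, one_mul]
  rcases phi_eq_one.1 h with h' | h'
  · rw [← map_mul, h', map_one]
  · exact absurd (mul_eq_left.1 h') tN_ne

theorem tne (S : Setting e) : e tN ≠ 1 := fun h => tN_ne (S.inj (h.trans (map_one e).symm))

theorem commute_z (S : Setting e) (n : moN) : Commute (e n) (e tN) :=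
  (show Commute n tN from mem_center_iff.1 tN_mem_center n).map e

theorem z_mem (S : Setting e) : e tN ∈ centralizer (e.range : Set G) :=
  mem_centralizer_iff.2 fun _ ⟨n, hn⟩ => hn ▸ (S.commute_z n).eq

theorem commute_K (S : Setting e) {k : G} (hk : k ∈ centralizer (e.range : Set G)) (n : moN) :
    Commute (e n) k :=
  mem_centralizer_iff.1 hk (e n) ⟨n, rfl⟩

theorem K_z (S : Setting e) {k : G} (hk : k ∈ centralizer (e.range : Set G)) : Commute k (e tN) :=
  (S.commute_K hk tN).symm

theorem L_meet (S : Setting e) {n : moN} (h : e n ∈ centralizer (e.range : Set G)) : n = 1 ∨ n = tN := by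
  refine phi_eq_one.1 ?_
  have hc : n ∈ center moN := mem_center_iff.2 fun m => S.inj (by
    rw [map_mul, map_mul]; exact (S.commute_K h m).eq)
  rw [mo.center_eq] at hc
  exact mo.mem_ker_σ.1 hc

/-- A conjugate of `z` in the centraliser of the standard subgroup is `z`. -/
theorem conj_z_eq (S : Setting e) {g : G} (h : g * e tN * g⁻¹ ∈ centralizer (e.range : Set G)) :
    g * e tN * g⁻¹ = e tN := by
  rw [(S.tight g (e tN) S.z_mem h S.tt S.tne).eq, mul_inv_cancel_right]

theorem exists_acts (S : Setting e) {x : G} (hx : Commute x (e tN)) : ∃ m : Mo, Acts e x m := by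
  haveI : Finite Mo := mo.finite
  let ι : moN ≃* e.range := MonoidHom.ofInjective S.inj
  have hmem : ∀ n, x * e n * x⁻¹ ∈ e.range := fun n =>
    (mem_normalizer_iff.1 (S.cent x hx) (e n)).1 ⟨n, rfl⟩
  let c : moN →* moN := MonoidHom.mk' (fun n => ι.symm ⟨_, hmem n⟩) fun a b => by
    rw [← map_mul ι.symm]
    exact congrArg ι.symm (Subtype.ext (by simp [mul_assoc]))
  have hc : ∀ n, e (c n) = x * e n * x⁻¹ := fun n => MonoidHom.apply_ofInjective_symm S.inj ⟨_, hmem n⟩
  have hct : c tN = tN := S.inj (by rw [hc, hx.eq, mul_inv_cancel_right])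
  have hker : mo.σ.ker ≤ (mo.σ.comp c).ker := fun n hn => by
    rcases phi_eq_one.1 (mo.mem_ker_σ.1 hn) with rfl | rfl
    · exact map_one _
    · show mo.σ (c tN) = 1
      rw [hct]
      exact MonoidHom.mem_ker.1 hn
  let F : HS.hsGroup →* HS.hsGroup := mo.σ.liftOfSurjective mo.σ_surjective ⟨mo.σ.comp c, hker⟩
  have hF : ∀ n, F (mo.σ n) = mo.σ (c n) := fun n =>
    MonoidHom.liftOfRightInverse_comp_apply _ _ _ ⟨mo.σ.comp c, hker⟩ n
  have hcinj : Function.Injective c := fun a b h => by
    have h' := congrArg e h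
    rw [hc, hc] at h'
    exact S.inj (mul_left_cancel (mul_right_cancel h'))
  have hinj : Function.Injective F := by
    refine (injective_iff_map_eq_one _).2 fun a ha => ?_
    obtain ⟨n, rfl⟩ := mo.σ_surjective a
    rw [hF] at ha
    rcases phi_eq_one.1 (mo.mem_ker_σ.1 (show c n ∈ mo.σ.ker from ha)) with h' | h'
    · rw [hcinj (h'.trans (map_one c).symm), map_one]
    · rw [hcinj (h'.trans hct.symm)]
      exact MonoidHom.mem_ker.1 (mo.mem_ker_σ.2 phi_tN)
  obtain ⟨α, hα⟩ := CfsgLib.M22Sub.graphConj_bijective.2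
    (MulEquiv.ofBijective F (Finite.injective_iff_bijective.1 hinj))
  obtain ⟨m, hm⟩ : α.1 ∈ mo.φ.range := by rw [mo.range_eq]; exact α.2
  haveI := mo.normal_N
  have hkey := hom_eq_of_central mo.perfect' c (MulAut.conjNormal m : MulAut moN).toMonoidHom fun n => by
    have e1 : α.1 * mo.φ (n : Mo) * α.1⁻¹ = mo.φ (c n : Mo) :=
      (congrArg Subtype.val (MulEquiv.ext_iff.1 hα (mo.σ n))).trans (congrArg Subtype.val (hF n))
    rw [mo.center_eq, mo.mem_ker_σ]
    rw [Subgroup.coe_mul, Subgroup.coe_inv, map_mul, map_inv]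
    show mo.φ (m * n * m⁻¹) * _ = 1
    rw [map_mul, map_mul, map_inv, hm, e1, mul_inv_cancel]
  refine ⟨m, fun n => ?_⟩
  rw [← hc, hkey]
  exact congrArg e (Subtype.ext (MulAut.conjNormal_apply m n))

theorem acts_commute (S : Setting e) {x : G} {m : Mo} (h : Acts e x m) : Commute x (e tN) := by
  have e1 : cjN m tN = tN := Subtype.ext (by rw [coe_cjN, (tN_central m).eq, mul_inv_cancel_right])
  have := h tN
  rw [e1] at this
  exact mul_inv_eq_iff_eq_mul.1 this

theorem acts_phi_eq (S : Setting e) {x : G} {m m' : Mo} (h : Acts e x m) (h' : Acts e x m') :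
    mo.φ m = mo.φ m' := by
  rw [← inv_mul_eq_one]
  refine centralises_trivial fun g hg => ?_
  obtain ⟨n, hn⟩ := mo.σ_surjective ⟨g, hg⟩
  have hn' : mo.φ (n : Mo) = g := congrArg Subtype.val hn
  have e1 := congrArg mo.φ (congrArg Subtype.val (S.inj ((h n).symm.trans (h' n))))
  rw [coe_cjN, coe_cjN, map_mul, map_mul, map_inv, map_mul, map_mul, map_inv, hn'] at e1
  calc (mo.φ m)⁻¹ * mo.φ m' * g = (mo.φ m)⁻¹ * (mo.φ m' * g * (mo.φ m')⁻¹) * mo.φ m' := by group
    _ = g * ((mo.φ m)⁻¹ * mo.φ m') := by rw [← e1]; group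

theorem acts_of_phi (S : Setting e) {x : G} {m m' : Mo} (h : Acts e x m) (hφ : mo.φ m = mo.φ m') :
    Acts e x m' := by
  haveI := mo.normal_N
  have hkey := hom_eq_of_central mo.perfect' (MulAut.conjNormal m : MulAut moN).toMonoidHom
    (MulAut.conjNormal m' : MulAut moN).toMonoidHom fun n => by
      rw [mo.center_eq, mo.mem_ker_σ]
      rw [Subgroup.coe_mul, Subgroup.coe_inv, map_mul, map_inv]
      show mo.φ (m' * n * m'⁻¹) * (mo.φ (m * n * m⁻¹))⁻¹ = 1
      simp only [map_mul, map_inv, hφ, mul_inv_cancel]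
  intro n
  rw [h n]
  refine congrArg e ?_
  have e2 := DFunLike.congr_fun hkey n
  refine Subtype.ext ?_
  rw [coe_cjN, coe_cjN, ← MulAut.conjNormal_apply, ← MulAut.conjNormal_apply]
  exact congrArg Subtype.val e2

theorem acts_mul (S : Setting e) {x y : G} {m m' : Mo} (h : Acts e x m) (h' : Acts e y m') :
    Acts e (x * y) (m * m') := fun n => by
  rw [show cjN (m * m') n = cjN m (cjN m' n) from Subtype.ext (by simp [cjN, mul_assoc]),
    ← h, ← h']
  group

theorem acts_L (S : Setting e) (n : moN) : Acts e (e n) n := fun u => by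
  rw [← map_inv, ← map_mul, ← map_mul]
  exact congrArg e (Subtype.ext (by simp [cjN, mul_assoc]))

open scoped Classical in
/-- The permutation by which an element commuting with `z` acts. -/
noncomputable def psi (S : Setting e) (x : G) : Equiv.Perm (Fin 100) :=
  if h : Commute x (e tN) then mo.φ (S.exists_acts h).choose else 1

theorem psi_eq (S : Setting e) {x : G} {m : Mo} (h : Acts e x m) : S.psi x = mo.φ m := by
  have hx := S.acts_commute h
  rw [psi, dif_pos hx]
  exact S.acts_phi_eq (S.exists_acts hx).choose_spec h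

theorem acts_psi (S : Setting e) {x : G} (hx : Commute x (e tN)) {m : Mo} (h : S.psi x = mo.φ m) :
    Acts e x m := by
  obtain ⟨m', hm'⟩ := S.exists_acts hx
  exact S.acts_of_phi hm' ((S.psi_eq hm').symm.trans h)

theorem psi_mem (S : Setting e) (x : G) : S.psi x ∈ HS.graphAut := by
  by_cases hx : Commute x (e tN)
  · obtain ⟨m, hm⟩ := S.exists_acts hx
    rw [S.psi_eq hm]; exact phi_mem m
  · rw [psi, dif_neg hx]; exact one_mem _

theorem psi_mul (S : Setting e) {x y : G} (hx : Commute x (e tN)) (hy : Commute y (e tN)) :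
    S.psi (x * y) = S.psi x * S.psi y := by
  obtain ⟨m, hm⟩ := S.exists_acts hx
  obtain ⟨m', hm'⟩ := S.exists_acts hy
  rw [S.psi_eq hm, S.psi_eq hm', S.psi_eq (S.acts_mul hm hm'), map_mul]

theorem psi_L (S : Setting e) (n : moN) : S.psi (e n) = mo.φ (n : Mo) := S.psi_eq (S.acts_L n)

theorem psi_one (S : Setting e) : S.psi 1 = 1 := by
  rw [← map_one e, S.psi_L]; exact map_one mo.φ

theorem psi_inv (S : Setting e) {x : G} (hx : Commute x (e tN)) : S.psi x⁻¹ = (S.psi x)⁻¹ :=
  eq_inv_of_mul_eq_one_left (by rw [← S.psi_mul hx.inv_left hx, inv_mul_cancel, S.psi_one])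

theorem psi_pow (S : Setting e) {x : G} (hx : Commute x (e tN)) : ∀ k : ℕ, S.psi (x ^ k) = S.psi x ^ k
  | 0 => by rw [pow_zero, pow_zero, S.psi_one]
  | k + 1 => by rw [pow_succ, pow_succ, S.psi_mul (hx.pow_left k) hx, S.psi_pow hx k]

theorem psi_conj (S : Setting e) {x y : G} (hx : Commute x (e tN)) (hy : Commute y (e tN)) :
    S.psi (x * y * x⁻¹) = S.psi x * S.psi y * (S.psi x)⁻¹ := by
  rw [S.psi_mul (hx.mul_left hy) hx.inv_left, S.psi_mul hx hy, S.psi_inv hx]

/-- The kernel of the action is the centraliser of the standard subgroup. -/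
theorem psi_eq_one (S : Setting e) {x : G} (hx : Commute x (e tN)) :
    S.psi x = 1 ↔ x ∈ centralizer (e.range : Set G) := by
  constructor
  · intro h
    have hA : Acts e x 1 := S.acts_psi hx (by rw [h, map_one])
    refine mem_centralizer_iff.2 ?_
    rintro _ ⟨n, rfl⟩
    have h1 := hA n
    rw [show cjN 1 n = n from Subtype.ext (by simp [cjN])] at h1
    exact (mul_inv_eq_iff_eq_mul.1 h1).symm
  · intro h
    have hA : Acts e x 1 := fun n => by
      rw [show cjN 1 n = n from Subtype.ext (by simp [cjN]), ← (S.commute_K h n).eq, mul_inv_cancel_right]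
    rw [S.psi_eq hA, map_one]

theorem conj_K (S : Setting e) {x k : G} (hx : Commute x (e tN)) (hk : k ∈ centralizer (e.range : Set G)) :
    x * k * x⁻¹ ∈ centralizer (e.range : Set G) := by
  refine (S.psi_eq_one ((hx.mul_left (S.K_z hk)).mul_left hx.inv_left)).1 ?_
  rw [S.psi_conj hx (S.K_z hk), (S.psi_eq_one (S.K_z hk)).2 hk, mul_one, mul_inv_cancel]

/-- An element fixes what its acting element fixes. -/
theorem commute_of_acts (S : Setting e) {x : G} {m : Mo} (h : Acts e x m) {n : moN}
    (hc : Commute m (n : Mo)) : Commute x (e n) := by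
  have h1 := h n
  rw [show cjN m n = n from Subtype.ext (by rw [coe_cjN, hc.eq, mul_inv_cancel_right])] at h1
  exact mul_inv_eq_iff_eq_mul.1 h1

/-- An element of order three is fixed by whatever fixes its image. -/
theorem commute_cube (S : Setting e) {x : G} (hx : Commute x (e tN)) {n : moN} (hn : n ^ 3 = 1)
    (hc : Commute (S.psi x) (mo.φ (n : Mo))) : Commute x (e n) := by
  obtain ⟨m, hm⟩ := S.exists_acts hx
  rw [S.psi_eq hm] at hc
  have hcj : cjN m n = n := eq_of_cube (Subtype.ext (by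
      rw [SubmonoidClass.coe_pow, coe_cjN, conj_pow, ← SubmonoidClass.coe_pow, hn]; simp))
    hn (by rw [coe_cjN, map_mul, map_mul, map_inv, hc.eq, mul_inv_cancel_right])
  have h1 := hm n
  rw [hcj] at h1
  exact mul_inv_eq_iff_eq_mul.1 h1

end Setting

end CfsgLib.HNStd.Eng
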