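import Cfsg.Agent.Lib.HNStd.EngineChecks
import Cfsg.Agent.Lib.HNStd.EngineSetup
import Cfsg.Agent.Lib.HSEndgame.Model
import Mathlib.GroupTheory.Sylow

/-!
# The facts about Aut HS used by the engine

Representatives of the involution classes, the centraliser of an element of order three, and what the
checks give about them.
-/

set_option autoImplicit false
set_option linter.style.haveILetI false
set_option maxRecDepth 100000

namespace CfsgLib.HNStd.Eng

open CfsgLib.HNRec CfsgLib.HNxyz CfsgLib.HNIndex CfsgLib.HNRec.Fusion CfsgLib.HNStd.Fused CfsgLib.Golay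
open scoped Pointwise

local notation "O" => HSEndgame.O

/-- The element of a word. -/
noncomputable def elW (w : List ℕ) : Mo := mW (1 : Unit) 1 1 w

open scoped Classical in
/-- The element of the double cover of a word. -/
noncomputable def nW (w : List ℕ) : moN := if h : elW w ∈ moN then ⟨elW w, h⟩ else 1

/-- The representative of a class. -/
noncomputable def Rep (j : ℕ) : Equiv.Perm (Fin 100) := mo.φ (elW (wW j))

/-- The element of order three. -/
noncomputable def pA : Equiv.Perm (Fin 100) := mo.φ (elW aW)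

theorem elW_mem {w : List ℕ} (hw : okW w = true) : elW w ∈ moN ↔ zc w % 2 = 0 := word_mem_iff (okW_iff.1 hw)

theorem coe_nW {w : List ℕ} (hw : okW w = true) (hz : zc w % 2 = 0) : (nW w : Mo) = elW w := by
  rw [nW, dif_pos ((elW_mem hw).2 hz)]

theorem elW_append (u v : List ℕ) : elW (u ++ v) = elW u * elW v := mW_append u v

theorem elW_nil : elW [] = 1 := by simp [elW, mW, evalW_nil]

theorem elW_inv {w : List ℕ} (hw : okW w = true) : elW (HNIndex.invW w) = (elW w)⁻¹ :=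
  evalW_invW _ _ _ (invW_lt (okW_iff.1 hw))

theorem okW_append {u v : List ℕ} : okW (u ++ v) = (okW u && okW v) := by simp [okW]

theorem okW_inv {w : List ℕ} (hw : okW w = true) : okW (HNIndex.invW w) = true :=
  okW_iff.2 (invW_lt (okW_iff.1 hw))

theorem elW_eq {u v : List ℕ} (hu : okW u = true) (hv : okW v = true) (h : beqL (kW u) (kW v) = true) :
    elW u = elW v :=
  mW_of_kW one_rels (okW_iff.1 hu) (okW_iff.1 hv) (beqL_iff.1 h)

theorem elW_ne {u v : List ℕ} (hu : okW u = true) (hv : okW v = true) (h : beqL (kW u) (kW v) = false) :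
    elW u ≠ elW v := fun e => by
  rw [beqL_iff.2 (kW_of_mW (okW_iff.1 hu) (okW_iff.1 hv) e)] at h
  exact absurd h (by decide)

theorem kW_nil : kW [] = base := by simp [kW, img]

theorem code_spec {w : List ℕ} (hw : okW w = true) :
    HSEndgame.O.ok (codeW w) = true ∧ HSEndgame.O.val (codeW w) = mo.φ (elW w) := by
  obtain ⟨h1, h2⟩ := codeW_spec (okW_iff.1 hw)
  refine ⟨h1, h2.trans ?_⟩
  rw [← mo.map_a, ← mo.map_b, ← mo.map_c]
  exact (map_evalW mo.φ mo.a mo.b mo.c w).symm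

theorem eqC_iff {u v : ℕ} (hu : HSEndgame.O.ok u = true) (hv : HSEndgame.O.ok v = true) :
    eqC u v = true ↔ HSEndgame.O.val u = HSEndgame.O.val v := by
  have hp : ∀ {i : ℕ}, i < 100 → HSEndgame.O.ptOk i = true := fun hi => decide_eq_true hi
  simp only [eqC, List.all_eq_true, List.mem_range, beq_iff_eq]
  constructor
  · intro h
    refine Equiv.ext fun i => ?_
    have h1 := (HSEndgame.O.pt_img u i.val hu (hp i.2)).1
    have h2 := (HSEndgame.O.pt_img v i.val hv (hp i.2)).1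
    rw [h i.val i.2, ← h2] at h1
    have hi : HSEndgame.O.pt i.val = i := Fin.ext (by
      show i.val % 100 = i.val
      exact Nat.mod_eq_of_lt i.2)
    rw [hi] at h1
    exact h1
  · intro h i hi
    refine HSEndgame.O.pt_inj _ _ (HSEndgame.O.pt_img u i hu (hp hi)).2 (HSEndgame.O.pt_img v i hv (hp hi)).2 ?_
    rw [← (HSEndgame.O.pt_img u i hu (hp hi)).1, ← (HSEndgame.O.pt_img v i hv (hp hi)).1, h]

theorem hasFix_iff {u : ℕ} (hu : HSEndgame.O.ok u = true) :
    hasFix u = true ↔ ∃ i : Fin 100, HSEndgame.O.val u i = i := by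
  have hpt : ∀ i : Fin 100, HSEndgame.O.pt i.val = i := fun i => Fin.ext (Nat.mod_eq_of_lt i.2)
  have key : ∀ i : Fin 100, HSEndgame.O.val u i = i ↔ HSEndgame.O.img u i.val = i.val := fun i => by
    obtain ⟨h1, h2⟩ := HSEndgame.O.pt_img u i.val hu (decide_eq_true i.2)
    rw [hpt, Equiv.Perm.smul_def] at h1
    rw [h1]
    refine ⟨fun h => HSEndgame.O.pt_inj _ _ h2 (decide_eq_true i.2) (h.trans (hpt i).symm), fun h => ?_⟩
    rw [h, hpt]
  simp only [hasFix, List.any_eq_true, List.mem_range, beq_iff_eq]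
  exact ⟨fun ⟨i, hi, h⟩ => ⟨⟨i, hi⟩, (key ⟨i, hi⟩).2 h⟩, fun ⟨i, h⟩ => ⟨i.1, i.2, (key i).1 h⟩⟩

theorem comm2_iff {u v : ℕ} (hu : HSEndgame.O.ok u = true) (hv : HSEndgame.O.ok v = true) :
    comm2 u v = true ↔ Commute (HSEndgame.O.val u) (HSEndgame.O.val v) := by
  rw [comm2, eqC_iff (HSEndgame.O.ok_mul _ _ hu hv) (HSEndgame.O.ok_mul _ _ hv hu),
    HSEndgame.O.val_mul _ _ hu hv, HSEndgame.O.val_mul _ _ hv hu]
  rfl

theorem powC_spec {u : ℕ} (hu : HSEndgame.O.ok u = true) : ∀ k,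
    HSEndgame.O.ok (powC u k) = true ∧ HSEndgame.O.val (powC u k) = HSEndgame.O.val u ^ k
  | 0 => ⟨HSEndgame.O.ok_one, by rw [powC, HSEndgame.O.val_one, pow_zero]⟩
  | k + 1 => by
    obtain ⟨h1, h2⟩ := powC_spec hu k
    exact ⟨HSEndgame.O.ok_mul _ _ hu h1, by rw [powC, HSEndgame.O.val_mul _ _ hu h1, h2, pow_succ']⟩

theorem words_ok {j : ℕ} (hj : j ∈ [1, 2, 3, 4]) : okW (wW j) = true ∧ okW (fW j) = true ∧
    okW (yW j) = true ∧ okW (baseW j) = true ∧ zc (yW j) % 2 = 0 ∧ zc (fW j) % 2 = 0 := by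
  have h := List.all_eq_true.1 word_checks.1 j hj
  simp only [Bool.and_eq_true, Nat.beq_eq] at h
  exact ⟨h.1.1.1.1.1, h.1.1.1.1.2, h.1.1.1.2, h.1.1.2, h.1.2, h.2⟩

theorem short_ok {w : List ℕ} (hw : w ∈ [aW, cW, dW, bW]) : okW w = true ∧ zc w % 2 = 0 := by
  have h := List.all_eq_true.1 word_checks.2.2.1 w hw
  simp only [Bool.and_eq_true, Nat.beq_eq] at h
  exact h

theorem aW_ok : okW aW = true ∧ zc aW % 2 = 0 := short_ok (by simp)

theorem rep_mem_hs {j : ℕ} : j ∈ [1, 2, 3, 4] → (Rep j ∈ HS.hsGroup ↔ j < 3) := by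
  intro hj
  have hw := (words_ok hj).1
  rw [Rep, ← mem_moN_iff, elW_mem hw]
  have h := word_checks.2.2.2.1
  simp only [Bool.and_eq_true, Nat.beq_eq] at h
  simp only [List.mem_cons, List.not_mem_nil, or_false] at hj
  rcases hj with rfl | rfl | rfl | rfl <;> omega

theorem rep_eq {j : ℕ} (hj : j ∈ [1, 2, 3, 4]) :
    Rep j = mo.φ (elW (yW j)) * mo.φ (elW (baseW j)) * (mo.φ (elW (yW j)))⁻¹ := by
  rw [Rep, wW, elW_append, elW_append, elW_inv (words_ok hj).2.2.1, map_mul, map_mul, map_inv]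

theorem rep_one_fix : ∃ i : Fin 100, Rep 1 i = i := by
  obtain ⟨h1, h2⟩ := code_spec (words_ok (j := 1) (by simp)).1
  rw [Rep, ← h2]
  exact (hasFix_iff h1).1 fix_checks.1

theorem hsGroup_chain : Bsgs.grp O eLevels = HS.hsGroup := by
  obtain ⟨hc, hprod, hgens⟩ := e_ok
  simp only [List.all_eq_true, List.mem_range, beq_iff_eq] at hgens
  refine Subgroup.eq_of_le_of_card_ge ((Subgroup.closure_le _).2 ?_) ?_
  · rintro _ ⟨r, hr, rfl⟩
    obtain ⟨k, hk, rfl⟩ := List.getElem_of_mem hr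
    rw [← List.getD_eq_getElem _ 0 hk, ← hgens k hk]
    exact (HSEndgame.el_spec _).2
  · rw [HS.card_hsGroup, ← hprod, (Bsgs.spec O (fun f hf => absurd hf List.not_mem_nil) hc).2.2.2.1]

theorem pA_val : HSEndgame.O.ok (codeW aW) = true ∧ HSEndgame.O.val (codeW aW) = pA := code_spec aW_ok.1

/-- The list exhausts the centraliser of the element of order three. -/
theorem cent_list {g : Equiv.Perm (Fin 100)} (hg : g ∈ HS.hsGroup) (hc : Commute g pA) :
    ∃ c ∈ eList, HSEndgame.O.ok c = true ∧ HSEndgame.O.val c = g := by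
  obtain ⟨r, hr, hgr⟩ := Bsgs.cent_sound HSEndgame.O pA_val.1 (fun b hb => absurd hb List.not_mem_nil)
    HSEndgame.O.ok_one e_ok.1 e_cent g (by rw [pA_val.2]; exact hc.eq)
    (by rw [HSEndgame.O.val_one, inv_one, one_mul, hsGroup_chain]; exact hg)
  exact ⟨r, hr, List.all_eq_true.1 list_ok r hr, hgr.symm⟩

theorem pA_cube : pA ^ 3 = 1 := by
  have h := elW_eq (u := aW ++ aW ++ aW) (v := []) (by simp [okW_append, aW_ok.1]) rfl
    (by rw [kW_nil]; exact mo_checks.2.2.2.2.2.2.2.1)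
  rw [elW_append, elW_append, elW_nil] at h
  rw [pA, ← map_pow, pow_succ, pow_two, h, map_one]

theorem pA_mem : pA ∈ HS.hsGroup := (mem_moN_iff _).1 ((elW_mem aW_ok.1).2 aW_ok.2)

theorem commute_a {j : ℕ} (hj : j ∈ [1, 2, 3, 4]) : Commute pA (Rep j) := by
  have h := List.all_eq_true.1 comm_checks.1 j hj
  rwa [comm2_iff pA_val.1 (code_spec (words_ok hj).1).1, pA_val.2, (code_spec (words_ok hj).1).2] at h

theorem commute_f {j : ℕ} (hj : j ∈ [1, 2, 3, 4]) : Commute (mo.φ (elW (fW j))) (Rep j) := by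
  have h := List.all_eq_true.1 comm_checks.2.1 j hj
  rwa [comm2_iff (code_spec (words_ok hj).2.1).1 (code_spec (words_ok hj).1).1,
    (code_spec (words_ok hj).2.1).2, (code_spec (words_ok hj).1).2] at h

theorem fW_cube {j : ℕ} (hj : j ∈ [1, 2, 3, 4]) : elW (fW j) ^ 3 = 1 := by
  obtain ⟨-, hf, -⟩ := words_ok hj
  have h := elW_eq (u := fW j ++ fW j ++ fW j) (v := []) (by simp [okW_append, hf]) rfl
    (by rw [kW_nil]; exact List.all_eq_true.1 mo_checks.2.1 j hj)
  rw [elW_append, elW_append, elW_nil] at h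
  rw [pow_succ, pow_two, h]

/-- No involution with a fixed point commutes with a representative and both elements of order three,
except the first representative. -/
theorem filt {j : ℕ} (hj : j ∈ [1, 2, 3, 4]) {T : Equiv.Perm (Fin 100)} (hT : T ∈ HS.hsGroup) (h1 : T ≠ 1)
    (h2 : T * T = 1) (h3 : ∃ i, T i = i) (ha : Commute T pA) (hR : Commute T (Rep j))
    (hf : Commute T (mo.φ (elW (fW j)))) : j = 1 ∧ T = Rep 1 := by
  obtain ⟨c, hc, hok, rfl⟩ := cent_list hT ha
  obtain ⟨hw, hfw, -⟩ := words_ok hj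
  obtain ⟨w1, w2⟩ := code_spec hw
  obtain ⟨f1, f2⟩ := code_spec hfw
  obtain ⟨r1, r2⟩ := code_spec (words_ok (j := 1) (by simp)).1
  have h := List.all_eq_true.1 (List.all_eq_true.1 filt_checks j hj) c hc
  simp only [filtB, Bool.or_eq_true, Bool.not_eq_true', Bool.and_eq_true, Nat.beq_eq,
    ← Bool.not_eq_true] at h
  rw [eqC_iff hok HSEndgame.O.ok_one, eqC_iff (HSEndgame.O.ok_mul _ _ hok hok) HSEndgame.O.ok_one,
    HSEndgame.O.val_mul _ _ hok hok, HSEndgame.O.val_one, hasFix_iff hok, comm2_iff hok w1, w2,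
    comm2_iff hok f1, f2, eqC_iff hok r1, r2] at h
  rcases h with ((((h | h) | h) | h) | h) | h
  · exact absurd h h1
  · exact absurd h2 h
  · exact absurd h3 h
  · exact absurd hR h
  · exact absurd hf h
  · exact h

theorem oW_spec : mo.φ (elW oW) ∈ HS.graphAut ∧ mo.φ (elW oW) ∉ HS.hsGroup ∧
    Commute (mo.φ (elW oW)) pA ∧ Commute (mo.φ (elW oW)) (Rep 1) := by
  have h := word_checks.2.2.2.1
  simp only [Bool.and_eq_true, Nat.beq_eq] at h
  obtain ⟨o1, o2⟩ := code_spec h.1.1.1.1.1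
  obtain ⟨w1, w2⟩ := code_spec (words_ok (j := 1) (by simp)).1
  refine ⟨phi_mem _, fun hh => ?_, ?_, ?_⟩
  · have := (elW_mem h.1.1.1.1.1).1 ((mem_moN_iff _).2 hh)
    omega
  · have := comm_checks.2.2.1
    rwa [comm2_iff o1 pA_val.1, o2, pA_val.2] at this
  · have := comm_checks.2.2.2
    rwa [comm2_iff o1 w1, o2, w2] at this

/-- The list exhausts the centraliser of the first representative and the element of order three. -/
theorem fortyEight_list {g : Equiv.Perm (Fin 100)} (hg : g ∈ HS.graphAut) (ha : Commute g pA)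
    (hr : Commute g (Rep 1)) : ∃ c ∈ cFortyEight, HSEndgame.O.ok c = true ∧ HSEndgame.O.val c = g := by
  obtain ⟨w1, w2⟩ := code_spec (words_ok (j := 1) (by simp)).1
  obtain ⟨og, on, oa, orr⟩ := oW_spec
  have hoW : okW oW = true := by
    have h := word_checks.2.2.2.1
    simp only [Bool.and_eq_true, Nat.beq_eq] at h
    exact h.1.1.1.1.1
  obtain ⟨o1, o2⟩ := code_spec hoW
  by_cases hh : g ∈ HS.hsGroup
  · obtain ⟨c, hc, hok, rfl⟩ := cent_list hh ha
    refine ⟨c, List.mem_filter.2 ⟨List.mem_append_left _ hc, ?_⟩, hok, rfl⟩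
    rw [comm2_iff hok w1, w2]
    exact hr
  · have hg' : g * (mo.φ (elW oW))⁻¹ ∈ HS.hsGroup := by
      refine HS.mem_hsGroup.2 ⟨mul_mem hg (inv_mem og), ?_⟩
      have s1 : Equiv.Perm.sign g = -1 := (Int.units_eq_one_or _).resolve_left fun hs =>
        hh (HS.mem_hsGroup.2 ⟨hg, hs⟩)
      have s2 : Equiv.Perm.sign (mo.φ (elW oW)) = -1 := (Int.units_eq_one_or _).resolve_left fun hs =>
        on (HS.mem_hsGroup.2 ⟨og, hs⟩)
      rw [Equiv.Perm.sign_mul, Equiv.Perm.sign_inv, s1, s2]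
      rfl
    obtain ⟨c, hc, hok, e⟩ := cent_list hg' (ha.mul_left oa.inv_left)
    have hok' := HSEndgame.O.ok_mul _ _ hok o1
    have hv : HSEndgame.O.val (HSEndgame.O.mul c (codeW oW)) = g := by
      rw [HSEndgame.O.val_mul _ _ hok o1, e, o2, inv_mul_cancel_right]
    refine ⟨_, List.mem_filter.2 ⟨List.mem_append_right _ (List.mem_map.2 ⟨c, hc, rfl⟩), ?_⟩, hok', hv⟩
    rw [comm2_iff hok' w1, w2, hv]
    exact hr

theorem pow_eq_one_of_eqC {u : ℕ} (hu : HSEndgame.O.ok u = true) (k : ℕ)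
    (h : eqC (powC u k) HSEndgame.O.one = true) : HSEndgame.O.val u ^ k = 1 := by
  obtain ⟨p1, p2⟩ := powC_spec hu k
  rwa [eqC_iff p1 HSEndgame.O.ok_one, p2, HSEndgame.O.val_one] at h

theorem pow_twelve {g : Equiv.Perm (Fin 100)} (hg : g ∈ HS.graphAut) (ha : Commute g pA)
    (hr : Commute g (Rep 1)) : g ^ 12 = 1 := by
  obtain ⟨c, hc, hok, rfl⟩ := fortyEight_list hg ha hr
  exact pow_eq_one_of_eqC hok 12 (List.all_eq_true.1 pow_checks c hc)

theorem cube_mem {g : Equiv.Perm (Fin 100)} (hg : g ∈ HS.hsGroup) (ha : Commute g pA) (hr : Commute g (Rep 1))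
    (h3 : g ^ 3 = 1) : g ∈ Subgroup.zpowers pA := by
  obtain ⟨c, hc, hok, rfl⟩ := cent_list hg ha
  obtain ⟨w1, w2⟩ := code_spec (words_ok (j := 1) (by simp)).1
  obtain ⟨a1, a2⟩ := pA_val
  obtain ⟨p1, p2⟩ := powC_spec hok 3
  have h := List.all_eq_true.1 cube_checks c hc
  simp only [Bool.or_eq_true, Bool.not_eq_true', ← Bool.not_eq_true] at h
  rw [comm2_iff hok w1, w2, eqC_iff p1 HSEndgame.O.ok_one, p2, HSEndgame.O.val_one,
    eqC_iff hok HSEndgame.O.ok_one, HSEndgame.O.val_one, eqC_iff hok a1, a2,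
    eqC_iff hok (HSEndgame.O.ok_mul _ _ a1 a1), HSEndgame.O.val_mul _ _ a1 a1, a2] at h
  rcases h with (((h | h) | h) | h) | h
  · exact absurd hr h
  · exact absurd h3 h
  · rw [h]; exact one_mem _
  · rw [h]; exact Subgroup.mem_zpowers _
  · rw [h]; exact mul_mem (Subgroup.mem_zpowers _) (Subgroup.mem_zpowers _)

theorem roots {g g' : Equiv.Perm (Fin 100)} (hg : g ∈ HS.graphAut) (ha : Commute g pA)
    (hr : Commute g (Rep 1)) (hg' : g' ∈ HS.graphAut) (ha' : Commute g' pA)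
    (hr' : Commute g' (Rep 1)) (hs : g * g = Rep 1) (hs' : g' * g' = Rep 1) : Commute g g' ∧
      ¬ (Commute g (mo.φ (elW (fW 1))) ∧ Commute g (mo.φ (elW dW))) := by
  obtain ⟨c, hc, hok, rfl⟩ := fortyEight_list hg ha hr
  obtain ⟨d, hd, hokd, rfl⟩ := fortyEight_list hg' ha' hr'
  obtain ⟨w1, w2⟩ := code_spec (words_ok (j := 1) (by simp)).1
  obtain ⟨f1, f2⟩ := code_spec (words_ok (j := 1) (by simp)).2.1
  obtain ⟨d1, d2⟩ := code_spec (short_ok (w := dW) (by simp)).1
  have hflt : ∀ {u : ℕ}, u ∈ cFortyEight → HSEndgame.O.ok u = true →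
      HSEndgame.O.val u * HSEndgame.O.val u = Rep 1 →
      u ∈ cFortyEight.filter fun v => eqC (HSEndgame.O.mul v v) (codeW (wW 1)) := fun hu hok hsq =>
    List.mem_filter.2 ⟨hu, by
      rw [eqC_iff (HSEndgame.O.ok_mul _ _ hok hok) w1, HSEndgame.O.val_mul _ _ hok hok, w2]; exact hsq⟩
  have h := List.all_eq_true.1 root_checks c (hflt hc hok hs)
  simp only [Bool.and_eq_true, List.all_eq_true, Bool.or_eq_true, Bool.not_eq_true', ← Bool.not_eq_true] at h
  refine ⟨(comm2_iff hok hokd).1 (h.1 d (hflt hd hokd hs')), ?_⟩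
  rw [← f2, ← d2, ← comm2_iff hok f1, ← comm2_iff hok d1]
  rintro ⟨e1, e2⟩
  rcases h.2 with e | e
  · exact e e1
  · exact e e2

theorem noroot_b {g : Equiv.Perm (Fin 100)} (hg : g ∈ HS.hsGroup) : g * g ≠ HSEndgame.bP := by
  intro h
  have hc : g ∈ HSEndgame.CB := Subgroup.mem_inf.2 ⟨hg, Subgroup.mem_centralizer_singleton_iff.2 (by
    rw [← h, mul_assoc])⟩
  rw [← HSEndgame.u_spec] at hc
  obtain ⟨c, hcm, hok, rfl⟩ := HSEndgame.mem_elems (fun f hf => absurd hf List.not_mem_nil)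
    HSEndgame.u_ok.1 g hc
  have e := List.all_eq_true.1 noroot_checks c hcm
  simp only [Bool.not_eq_true', ← Bool.not_eq_true] at e
  rw [eqC_iff (HSEndgame.O.ok_mul _ _ hok hok) HSEndgame.codeB_ok.1, HSEndgame.O.val_mul _ _ hok hok] at e
  exact e h

theorem exists_moN {g : Equiv.Perm (Fin 100)} (hg : g ∈ HS.hsGroup) : ∃ n : moN, mo.φ (n : Mo) = g := by
  obtain ⟨n, hn⟩ := mo.σ_surjective ⟨g, hg⟩
  exact ⟨n, congrArg Subtype.val hn⟩

theorem phi_hs (n : moN) : mo.φ (n : Mo) ∈ HS.hsGroup := n.2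

theorem fix_conj {T g : Equiv.Perm (Fin 100)} (h : ∃ i, T i = i) : ∃ i, (g * T * g⁻¹) i = i :=
  h.elim fun i hi => ⟨g i, by simp [hi]⟩

theorem rep_facts {j : ℕ} (hj : j ∈ [1, 2]) : Rep j * Rep j = 1 ∧ Rep j ≠ 1 := by
  simp only [List.mem_cons, List.not_mem_nil, or_false] at hj
  rcases hj with rfl | rfl
  · refine ⟨?_, fun h => ?_⟩
    · have h := elW_eq (u := wW 1 ++ wW 1) (v := []) (by simp [okW_append, (words_ok (j := 1) (by simp)).1])
        rfl (by rw [kW_nil]; exact mo_checks.2.2.1)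
      rw [elW_append, elW_nil] at h
      rw [Rep, ← map_mul, h, map_one]
    · have hn := coe_nW (words_ok (j := 1) (by simp)).1 (by
        have h := word_checks.2.2.2.1
        simp only [Bool.and_eq_true, Nat.beq_eq] at h
        exact h.1.1.1.2)
      rw [Rep, ← hn] at h
      rcases phi_eq_one.1 h with e | e
      · have e1 := congrArg Subtype.val e
        rw [hn, Subgroup.coe_one, ← elW_nil] at e1
        exact elW_ne (words_ok (j := 1) (by simp)).1 rfl (by decide +kernel) e1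
      · have e1 := congrArg Subtype.val e
        rw [hn, coe_tN, rep_zero one_rels] at e1
        exact elW_ne (words_ok (j := 1) (by simp)).1 (v := [0, 0]) rfl (by decide +kernel) e1
  · have hw := words_ok (j := 2) (by simp)
    have e : mo.φ (elW (baseW 2)) = px := by
      rw [word_checks.2.2.2.2.2.1, ← mo.map_a]
      exact congrArg mo.φ (by simp [elW, mW, evalW_cons, evalW_nil, elt]; rfl)
    rw [rep_eq (by simp), e]
    refine ⟨by rw [conj_mul, px_sq, mul_one, mul_inv_cancel], fun h => ?_⟩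
    have h' : px = 1 := conj_eq_one_iff.1 h
    have h0 := fix_checks.2.1
    obtain ⟨c1, c2⟩ := code_spec hw.1
    rw [← Bool.not_eq_true, hasFix_iff c1, c2] at h0
    refine h0 ⟨0, ?_⟩
    show Rep 2 0 = 0
    rw [rep_eq (by simp), e, h', mul_one, mul_inv_cancel]
    rfl

/-- An involution of HS is conjugate to one of the two, as it has fixed points or not. -/
theorem ab_class {y : Equiv.Perm (Fin 100)} (hy : y ∈ HS.hsGroup) (hy2 : y * y = 1) (hy1 : y ≠ 1) :
    ∃ g ∈ HS.hsGroup, (g * y * g⁻¹ = HSEndgame.aP ∧ ∃ i, y i = i) ∨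
      (g * y * g⁻¹ = HSEndgame.bP ∧ ¬ ∃ i, y i = i) := by
  have ho : orderOf (⟨y, hy⟩ : HS.hsGroup) = 2 := orderOf_eq_prime (hp := ⟨Nat.prime_two⟩)
    (Subtype.ext (by rw [SubmonoidClass.coe_pow, pow_two]; exact hy2)) fun h => hy1 (congrArg Subtype.val h)
  obtain ⟨g, hg⟩ := HSEndgame.invol_cases ho
  obtain ⟨g, hgm⟩ := g
  refine ⟨g, hgm, ?_⟩
  rcases hg with hg | hg
  · have e : g * y * g⁻¹ = HSEndgame.aP := congrArg Subtype.val hg
    refine Or.inl ⟨e, ?_⟩
    have h3 : ∃ i, HSEndgame.aP i = i := (hasFix_iff HSEndgame.codeA_ok.1).1 fix_checks.2.2.1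
    have h4 := fix_conj (g := g⁻¹) h3
    rw [← e] at h4
    simpa [mul_assoc] using h4
  · have e : g * y * g⁻¹ = HSEndgame.bP := congrArg Subtype.val hg
    refine Or.inr ⟨e, fun h => ?_⟩
    have h3 := fix_conj (g := g) h
    rw [e] at h3
    have := (hasFix_iff HSEndgame.codeB_ok.1).2 h3
    rw [fix_checks.2.2.2] at this
    exact absurd this (by decide)

theorem rep_two_nofix : ¬ ∃ i, Rep 2 i = i := by
  obtain ⟨c1, c2⟩ := code_spec (words_ok (j := 2) (by simp)).1
  rw [Rep, ← c2, ← hasFix_iff c1, fix_checks.2.1]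
  decide

/-- An involution of HS is conjugate to one of the first two representatives. -/
theorem classify_inner {x : Equiv.Perm (Fin 100)} (hx : x ∈ HS.hsGroup) (h2 : x * x = 1) (h1 : x ≠ 1) :
    ∃ n : moN, ∃ j ∈ [1, 2], mo.φ (n : Mo) * x * (mo.φ (n : Mo))⁻¹ = Rep j := by
  have key := @ab_class
  obtain ⟨g, hg, hgx⟩ := key hx h2 h1
  have rep_mem : ∀ j ∈ [1, 2], Rep j ∈ HS.hsGroup := fun j hj => (rep_mem_hs (by
    simp only [List.mem_cons, List.not_mem_nil, or_false] at hj ⊢; omega)).2 (by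
    simp only [List.mem_cons, List.not_mem_nil, or_false] at hj; omega)
  have hfix2 : ¬ ∃ i, Rep 2 i = i := by
    obtain ⟨c1, c2⟩ := code_spec (words_ok (j := 2) (by simp)).1
    rw [Rep, ← c2, ← hasFix_iff c1, fix_checks.2.1]
    decide
  rcases hgx with ⟨e, -⟩ | ⟨e, -⟩
  · obtain ⟨g1, hg1, h⟩ := key (rep_mem 1 (by simp)) (rep_facts (by simp)).1 (rep_facts (by simp)).2
    rcases h with ⟨e1, -⟩ | ⟨-, hn⟩
    · obtain ⟨n, hn⟩ := exists_moN (mul_mem (inv_mem hg1) hg)
      refine ⟨n, 1, by simp, ?_⟩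
      rw [hn, show Rep 1 = g1⁻¹ * (g1 * Rep 1 * g1⁻¹) * g1 by group, e1, ← e]
      group
    · exact absurd rep_one_fix hn
  · obtain ⟨g1, hg1, h⟩ := key (rep_mem 2 (by simp)) (rep_facts (by simp)).1 (rep_facts (by simp)).2
    rcases h with ⟨-, hn⟩ | ⟨e1, -⟩
    · exact absurd hn hfix2
    · obtain ⟨n, hn⟩ := exists_moN (mul_mem (inv_mem hg1) hg)
      refine ⟨n, 2, by simp, ?_⟩
      rw [hn, show Rep 2 = g1⁻¹ * (g1 * Rep 2 * g1⁻¹) * g1 by group, e1, ← e]
      group

/-- An involution that is a square in HS is conjugate to the first representative. -/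
theorem square_class {h : Equiv.Perm (Fin 100)} (hh : h ∈ HS.hsGroup) (h1 : h * h ≠ 1)
    (h2 : h * h * (h * h) = 1) : ∃ n : moN, mo.φ (n : Mo) * (h * h) * (mo.φ (n : Mo))⁻¹ = Rep 1 := by
  obtain ⟨n, j, hj, e⟩ := classify_inner (mul_mem hh hh) h2 h1
  simp only [List.mem_cons, List.not_mem_nil, or_false] at hj
  rcases hj with rfl | rfl
  · exact ⟨n, e⟩
  · exfalso
    obtain ⟨g, hg, ⟨-, hfix⟩ | ⟨hg', -⟩⟩ := ab_class ((rep_mem_hs (j := 2) (by simp)).2 (by norm_num))
      (rep_facts (j := 2) (by simp)).1 (rep_facts (j := 2) (by simp)).2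
    · exact rep_two_nofix hfix
    refine noroot_b (mul_mem (mul_mem (mul_mem hg (phi_hs n)) hh) (inv_mem (mul_mem hg (phi_hs n)))) ?_
    rw [conj_mul, mul_inv_rev, ← hg', ← e]
    group

/-- An outer involution is conjugate to one of the last two representatives. -/
theorem classify_outer {x : Equiv.Perm (Fin 100)} (hx : x ∈ HS.graphAut) (hx' : x ∉ HS.hsGroup)
    (h2 : x * x = 1) : ∃ n : moN, ∃ j ∈ [3, 4], mo.φ (n : Mo) * x * (mo.φ (n : Mo))⁻¹ = Rep j := by
  classical
  haveI : Finite Mo := mo.finite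
  haveI : Fact (Nat.Prime 2) := ⟨Nat.prime_two⟩
  obtain ⟨m, rfl⟩ : x ∈ mo.φ.range := by rw [mo.range_eq]; exact hx
  have hmN : m ∉ moN := fun h => hx' ((mem_moN_iff m).1 h)
  have hm2 : m * m ∈ moN := (mem_moN_iff _).2 (by rw [map_mul, h2]; exact one_mem _)
  have hsq : m * m = 1 := by
    rcases (phi_eq_one (n := ⟨m * m, hm2⟩)).1 (by rw [map_mul]; exact h2) with e | e
    · exact congrArg Subtype.val e
    · exfalso
      have e' : m * m = (tN : Mo) := congrArg Subtype.val e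
      have htt : (tN : Mo) * tN = 1 := by
        rcases (phi_eq_one (n := tN * tN)).1 (by rw [Subgroup.coe_mul, map_mul, phi_tN, one_mul]) with h | h
        · exact congrArg Subtype.val h
        · exact absurd (mul_eq_left.1 h) tN_ne
      have hp : IsPGroup 2 (Subgroup.zpowers m) := by
        refine IsPGroup.of_card (n := 2) ?_
        rw [Nat.card_zpowers]
        refine orderOf_eq_prime_pow (n := 1) (fun h => ?_) ?_
        · rw [pow_one, pow_two, e'] at h
          exact tN_ne (Subtype.ext h)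
        · rw [show 2 ^ (1 + 1) = 2 + 2 from rfl, pow_add, pow_two, e', htt]
      obtain ⟨Q, hQ⟩ := hp.exists_le_sylow
      obtain ⟨g, hg⟩ := MulAction.exists_smul_eq Mo Q (sylow one_rels)
      have hs : g * m * g⁻¹ ∈ syl (1 : Unit) 1 1 := by
        have h' : MulAut.conj g • m ∈ MulAut.conj g • (Q : Subgroup Mo) :=
          Subgroup.smul_mem_pointwise_smul _ _ _ (hQ (Subgroup.mem_zpowers m))
        rw [← Sylow.pointwise_smul_def, ← Sylow.smul_def, hg] at h'
        exact h'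
      obtain ⟨i, hi, ei⟩ := (syl_exact one_rels).1 hs
      have hchk := List.all_eq_true.1 mo_checks.2.2.2.2.2.2.2.2.2 i (List.mem_range.2 hi)
      have hodd : oddAt i = true := by
        by_contra hc
        rw [Bool.not_eq_true, ← el_mem_iff hi, ei] at hc
        exact hmN (by simpa [mul_assoc] using mo.normal_N.conj_mem' _ hc g)
      have hkey : sqKey i = kW (repW 0) := by
        refine (sq_eq_iff one_rels hi (rep_ok (by norm_num))).1 ?_
        rw [ei, conj_mul, e', (tN_central g).eq, mul_inv_cancel_right]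
        exact coe_tN
      rw [hodd, beqL_iff.2 hkey] at hchk
      exact absurd hchk (by decide)
  obtain ⟨r, hr, g, hg⟩ := exists_rep one_rels (fun h => hmN (by rw [h]; exact one_mem _)) hsq
  have hr3 : 3 ≤ r := by
    by_contra hlt
    have h' := (rep_mem_iff hr).2 (by omega)
    rw [← hg] at h'
    exact hmN (by simpa [mul_assoc] using mo.normal_N.conj_mem' _ h' g)
  obtain ⟨u, hu⟩ : ∃ u : moN, (u : Mo) * m * (u : Mo)⁻¹ = rep (1 : Unit) 1 1 r := by
    by_cases hgN : g ∈ moN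
    · exact ⟨⟨g, hgN⟩, hg⟩
    · refine ⟨⟨g * m, (Subgroup.mul_mem_iff_of_index_two mo.index_N).2 (iff_of_false hgN hmN)⟩, ?_⟩
      show g * m * m * (g * m)⁻¹ = _
      rw [← hg]; group
  have hj : r ∈ [1, 2, 3, 4] := by simp; omega
  have hb : elW (baseW r) = rep (1 : Unit) 1 1 r := by
    have h := word_checks.2.2.2.2
    rcases (show r = 3 ∨ r = 4 by omega) with rfl | rfl
    · rw [h.2.2.1]; rfl
    · rw [h.2.2.2.1]; rfl
  refine ⟨nW (yW r) * u, r, by simp; omega, ?_⟩
  rw [Subgroup.coe_mul, coe_nW (words_ok hj).2.2.1 (words_ok hj).2.2.2.2.1, map_mul, rep_eq hj, hb, ← hu,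
    map_mul, map_mul, map_inv]
  group

/-- An involution of the automorphism group is conjugate to a representative. -/
theorem classify {x : Equiv.Perm (Fin 100)} (hx : x ∈ HS.graphAut) (h2 : x * x = 1) (h1 : x ≠ 1) :
    ∃ n : moN, ∃ j ∈ [1, 2, 3, 4], mo.φ (n : Mo) * x * (mo.φ (n : Mo))⁻¹ = Rep j := by
  by_cases h : x ∈ HS.hsGroup
  · obtain ⟨n, j, hj, e⟩ := classify_inner h h2 h1
    exact ⟨n, j, by simp only [List.mem_cons, List.not_mem_nil, or_false] at hj ⊢; omega, e⟩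
  · obtain ⟨n, j, hj, e⟩ := classify_outer hx h h2
    exact ⟨n, j, by simp only [List.mem_cons, List.not_mem_nil, or_false] at hj ⊢; omega, e⟩

theorem mem_hs_of_cube {g : Equiv.Perm (Fin 100)} (hg : g ∈ HS.graphAut) (h3 : g ^ 3 = 1) : g ∈ HS.hsGroup := by
  refine HS.mem_hsGroup.2 ⟨hg, ?_⟩
  rcases Int.units_eq_one_or (Equiv.Perm.sign g) with h | h
  · exact h
  · have e := congrArg Equiv.Perm.sign h3
    rw [map_pow, h, map_one] at e
    exact absurd e (by decide)

/-- An element of order three commuting with the first representative is carried into the powers of the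
fixed one inside the centraliser of that representative. -/
theorem three_conj {b : Equiv.Perm (Fin 100)} (hb : b ∈ HS.hsGroup) (hc : Commute b (Rep 1))
    (h3 : b ^ 3 = 1) : ∃ n : moN, Commute (mo.φ (n : Mo)) (Rep 1) ∧
      mo.φ (n : Mo) * b * (mo.φ (n : Mo))⁻¹ ∈ Subgroup.zpowers pA := by
  haveI : Fact (Nat.Prime 3) := ⟨Nat.prime_three⟩
  set C : Subgroup (Equiv.Perm (Fin 100)) := HS.hsGroup ⊓ Subgroup.centralizer {Rep 1} with hC
  have hmemC : ∀ {g : Equiv.Perm (Fin 100)}, g ∈ HS.hsGroup → Commute g (Rep 1) → g ∈ C := fun hg hc =>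
    ⟨hg, Subgroup.mem_centralizer_singleton_iff.2 hc.eq⟩
  have hcom : ∀ u : C, Commute (u : Equiv.Perm (Fin 100)) (Rep 1) := fun u =>
    Subgroup.mem_centralizer_singleton_iff.1 u.2.2
  let a : C := ⟨pA, hmemC pA_mem (commute_a (by simp))⟩
  let b' : C := ⟨b, hmemC hb hc⟩
  have hP : ∀ {u : C}, u ^ 3 = 1 → IsPGroup 3 (Subgroup.zpowers u) := fun {u} hu => by
    obtain ⟨k, -, hk⟩ := (Nat.dvd_prime_pow Nat.prime_three).1
      (show orderOf u ∣ 3 ^ 1 from orderOf_dvd_of_pow_eq_one hu)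
    exact IsPGroup.of_card (n := k) (by rw [Nat.card_zpowers, hk])
  obtain ⟨P, haP⟩ := (hP (show a ^ 3 = 1 from Subtype.ext pA_cube)).exists_le_sylow
  obtain ⟨Q, hbQ⟩ := (hP (show b' ^ 3 = 1 from Subtype.ext h3)).exists_le_sylow
  have haP' : a ∈ (P : Subgroup C) := haP (Subgroup.mem_zpowers a)
  have hsmall : ∀ u ∈ (P : Subgroup C), Commute u a → (u : Equiv.Perm (Fin 100)) ∈ Subgroup.zpowers pA := by
    intro u hu hua
    obtain ⟨k, hk⟩ := P.2 ⟨u, hu⟩
    have hk' : (u : Equiv.Perm (Fin 100)) ^ 3 ^ k = 1 := congrArg (fun v : P => (v : C).1) hk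
    have hua' : Commute (u : Equiv.Perm (Fin 100)) pA := congrArg Subtype.val hua.eq
    refine cube_mem u.2.1 hua' (hcom u) (orderOf_dvd_iff_pow_eq_one.1 ?_)
    have h12 := orderOf_dvd_of_pow_eq_one (pow_twelve (HS.mem_hsGroup.1 u.2.1).1 hua' (hcom u))
    obtain ⟨i, -, hi⟩ := (Nat.dvd_prime_pow Nat.prime_three).1 (orderOf_dvd_of_pow_eq_one hk')
    rw [hi] at h12 ⊢
    rcases i with _ | _ | i
    · exact one_dvd _
    · exact dvd_refl _
    · exfalso
      exact absurd ((pow_dvd_pow 3 (show 2 ≤ i + 2 by omega)).trans h12) (by norm_num)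
  have ha1 : a ≠ 1 := fun h => by
    have h' : pA = 1 := congrArg Subtype.val h
    obtain ⟨c1, c2⟩ := pA_val
    rw [← c2, ← HSEndgame.O.val_one, ← eqC_iff c1 HSEndgame.O.ok_one] at h'
    revert h'
    decide +kernel
  have hPle : ∀ u ∈ (P : Subgroup C), (u : Equiv.Perm (Fin 100)) ∈ Subgroup.zpowers pA := by
    haveI : Nontrivial P := nontrivial_of_ne ⟨a, haP'⟩ 1 fun h => ha1 (congrArg Subtype.val h)
    obtain ⟨⟨w, hw⟩, hw1⟩ := (@exists_ne _ P.2.center_nontrivial 1)
    have hwc : ∀ u ∈ (P : Subgroup C), Commute u (w : C) := fun u hu =>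
      congrArg Subtype.val (Subgroup.mem_center_iff.1 hw ⟨u, hu⟩)
    have hwm := hsmall w w.2 (hwc a haP').symm
    intro u hu
    refine hsmall u hu ?_
    refine Subtype.ext ?_
    obtain ⟨i, hi⟩ := hwm
    have hi' : pA ^ i = ((w : C) : Equiv.Perm (Fin 100)) := hi
    have hcw : Commute (u : Equiv.Perm (Fin 100)) (pA ^ i) := by
      rw [hi']; exact congrArg Subtype.val (hwc u hu).eq
    have hi3 : pA ^ i = pA ∨ pA ^ i = pA * pA ∨ pA ^ i = 1 := by
      have e : pA ^ i = pA ^ (i % 3) := zpow_eq_zpow_emod i (n := 3) (by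
        show pA ^ (3 : ℤ) = 1
        rw [show (3 : ℤ) = ((3 : ℕ) : ℤ) from rfl, zpow_natCast, pA_cube])
      rw [e]
      have := Int.emod_nonneg i (show (3 : ℤ) ≠ 0 by norm_num)
      have := Int.emod_lt_of_pos i (show (0 : ℤ) < 3 by norm_num)
      obtain h | h | h : i % 3 = 0 ∨ i % 3 = 1 ∨ i % 3 = 2 := by omega
      · exact Or.inr (Or.inr (by rw [h, zpow_zero]))
      · exact Or.inl (by rw [h, zpow_one])
      · exact Or.inr (Or.inl (by rw [h, zpow_two]))
    rcases hi3 with h | h | h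
    · rw [h] at hcw; exact hcw.eq
    · rw [h] at hcw
      have : pA = (pA * pA) * (pA * pA) := by
        rw [show pA * pA * (pA * pA) = pA ^ 3 * pA by simp [pow_succ, mul_assoc], pA_cube, one_mul]
      show (u : Equiv.Perm (Fin 100)) * pA = pA * u
      rw [this]
      exact (hcw.mul_right hcw).eq
    · exfalso
      rw [h] at hi'
      exact hw1 (Subtype.ext (Subtype.ext (Subtype.ext hi'.symm)))
  obtain ⟨g, hg⟩ := MulAction.exists_smul_eq C Q P
  obtain ⟨n, hn⟩ := exists_moN g.2.1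
  refine ⟨n, by rw [hn]; exact hcom g, ?_⟩
  have h' : MulAut.conj g • b' ∈ MulAut.conj g • (Q : Subgroup C) :=
    Subgroup.smul_mem_pointwise_smul _ _ _ (hbQ (Subgroup.mem_zpowers b'))
  rw [← Sylow.pointwise_smul_def, ← Sylow.smul_def, hg] at h'
  rw [hn]
  exact hPle _ h'

end CfsgLib.HNStd.Eng
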