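import Cfsg.Agent.Lib.HNRec.Coords.Main
import Cfsg.Agent.Lib.HNRec.Fusion.Sylow
import Cfsg.Agent.Lib.HNStd.FusedChecks

/-!
# The double cover alone cannot be a centraliser with a fused pair

In the double cover every involution is `t` or lies over one of two classes; a Sylow subgroup has 80
roots of `t` against 48 and 64 of the other two central involutions, so none of them is fused to `t`.
-/

set_option autoImplicit false
set_option linter.style.haveILetI false
set_option maxRecDepth 100000

namespace CfsgLib.HNStd.Fused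

open CfsgLib.HNxyz CfsgLib.HNIndex CfsgLib.HNRec CfsgLib.HNRec.Fusion
open scoped Pointwise

/-- A counting tool: the numbers below 2048 passing a test. -/
theorem card_passing (p : ℕ → Bool) :
    Nat.card {i : Fin 2048 // p i = true} = ((List.range 2048).filter p).length := by
  classical
  rw [Nat.card_eq_fintype_card, Fintype.card_subtype,
    ← List.toFinset_card_of_nodup ((List.nodup_range (n := 2048)).filter _)]
  refine Finset.card_bij (fun i _ => (i : ℕ)) ?_ (fun i _ j _ e => Fin.ext e) ?_
  · intro i hi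
    simp only [List.mem_toFinset, List.mem_filter, List.mem_range]
    exact ⟨i.2, (Finset.mem_filter.1 hi).2⟩
  · intro n hn
    simp only [List.mem_toFinset, List.mem_filter, List.mem_range] at hn
    exact ⟨⟨n, hn.1⟩, Finset.mem_filter.2 ⟨Finset.mem_univ _, hn.2⟩, rfl⟩

/-- A word gives an element of the double cover if its third letters have even sum. -/
theorem word_mem_iff : ∀ {w : List ℕ}, (∀ g ∈ w, g < 6) →
    (mW (1 : Unit) 1 1 w ∈ moN ↔ zc w % 2 = 0)
  | [], _ => by simp [mW, evalW_nil, zc]
  | g :: w, hw => by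
    have ih := word_mem_iff (w := w) fun x hx => hw x (List.mem_cons_of_mem _ hx)
    have hg := hw g List.mem_cons_self
    have ha : mA (1 : Unit) 1 1 ∈ moN := mo.mem_a
    have hb : mB (1 : Unit) 1 1 ∈ moN := mo.mem_b
    have hc : mC (1 : Unit) 1 1 ∉ moN := mo.not_mem_c
    rw [mW, evalW_cons, Subgroup.mul_mem_iff_of_index_two mo.index_N, ← mW, ih, zc,
      Nat.mod_mod_of_dvd _ (show 2 ∣ 4 by decide)]
    interval_cases g <;> simp [elt, ha, hb, hc] <;> omega

theorem el_mem_iff {i : ℕ} (hi : i < 2048) :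
    el (1 : Unit) 1 1 i ∈ moN ↔ oddAt i = false := by
  rw [el, word_mem_iff (seq_ok hi), oddAt, Bool.eq_false_iff, ne_eq, Nat.beq_eq]
  omega

theorem rep_mem_iff {r : ℕ} (hr : r < 5) : rep (1 : Unit) 1 1 r ∈ moN ↔ r < 3 := by
  rw [rep, word_mem_iff (rep_ok hr)]
  have h := congrArg (fun l : List ℕ => l.getD r 0) tw_checks.2.2.2.2
  interval_cases r <;> simp_all

/-- The even half of the Sylow subgroup. -/
noncomputable def sylN : Subgroup moN := (syl (1 : Unit) 1 1).subgroupOf moN

/-- The even half is numbered. -/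
noncomputable def evenEquiv : {i : Fin 2048 // oddAt i = false} ≃ sylN :=
  Equiv.ofBijective
    (fun i => ⟨⟨el (1 : Unit) 1 1 i.1, (el_mem_iff i.1.2).2 i.2⟩,
      Subgroup.mem_subgroupOf.2 (el_mem one_rels i.1.2)⟩)
    ⟨fun i j e => Subtype.ext (Fin.ext (el_inj i.1.2 j.1.2 (congrArg (fun x : sylN => x.1.1) e))),
      fun m => by
        obtain ⟨i, hi, e⟩ := (syl_exact one_rels).1 (Subgroup.mem_subgroupOf.1 m.2)
        exact ⟨⟨⟨i, hi⟩, (el_mem_iff hi).1 (e ▸ m.1.2)⟩, Subtype.ext (Subtype.ext e)⟩⟩

theorem card_sylN : Nat.card sylN = 2 ^ 10 := by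
  rw [← Nat.card_congr evenEquiv,
    Nat.card_congr (Equiv.subtypeEquivRight (q := fun i : Fin 2048 => (!oddAt i) = true) (by simp)),
    card_passing (fun i => !oddAt i), even_checks.1]
  norm_num

theorem card_rootsN {r : ℕ} (hr : r < 3) :
    Nat.card {x : sylN // ((x : moN) : Mo) * ((x : moN) : Mo) = rep (1 : Unit) 1 1 r} = evenRoots r := by
  have key : ∀ i : {i : Fin 2048 // oddAt i = false}, beqL (sqKey i.1) (kW (repW r)) = true ↔
      ((evenEquiv i : moN) : Mo) * ((evenEquiv i : moN) : Mo) = rep (1 : Unit) 1 1 r := fun i => by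
    rw [beqL_iff, ← sq_eq_iff one_rels i.1.2 (rep_ok (by omega))]
    rfl
  rw [← Nat.card_congr (evenEquiv.subtypeEquiv key),
    Nat.card_congr (Equiv.subtypeSubtypeEquivSubtypeInter (fun i : Fin 2048 => oddAt i = false)
      fun i : Fin 2048 => beqL (sqKey i) (kW (repW r)) = true),
    Nat.card_congr (Equiv.subtypeEquivRight
      (q := fun i : Fin 2048 => (!oddAt i && beqL (sqKey i) (kW (repW r))) = true) (by simp)),
    card_passing (fun i => !oddAt i && beqL (sqKey i) (kW (repW r))), evenRoots]

/-- The central involution of the double cover. -/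
noncomputable def tN : moN := ⟨mo.a * mo.a, mul_mem mo.mem_a mo.mem_a⟩

theorem coe_tN : (tN : Mo) = rep (1 : Unit) 1 1 0 := by
  rw [rep_zero one_rels, mW, evalW_cons, evalW_cons, evalW_nil, mul_one]
  rfl

theorem tN_central (m : Mo) : Commute m (tN : Mo) := by
  have hm : m ∈ Subgroup.closure {mo.a, mo.b, mo.c} := mo.top ▸ Subgroup.mem_top m
  have hx : ∀ g ∈ ([2, 4] : List ℕ), Commute (mW (1 : Unit) 1 1 [g]) (tN : Mo) := by
    intro g hg
    have e := beqL_iff.1 (List.all_eq_true.1 even_checks.2.2.2.2 g hg)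
    have h6 : g < 6 := by fin_cases hg <;> omega
    rw [coe_tN, rep_zero one_rels]
    show _ * _ = _ * _
    rw [← mW_append, ← mW_append]
    exact mW_of_kW one_rels (by simp [h6]) (by simp [h6]) e
  induction hm using Subgroup.closure_induction with
  | mem g hg =>
    rcases hg with rfl | rfl | rfl
    · exact (Commute.refl _).mul_right (Commute.refl _)
    · show Commute (mB (1 : Unit) 1 1) _
      simpa [mW, evalW_cons, evalW_nil, elt] using hx 2 (by simp)
    · show Commute (mC (1 : Unit) 1 1) _
      simpa [mW, evalW_cons, evalW_nil, elt] using hx 4 (by simp)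
  | one => exact Commute.one_left _
  | mul g g' _ _ e e' => exact e.mul_left e'
  | inv g _ e => exact e.inv_left

theorem card_moN : Nat.card moN = 2 ^ 10 * 86625 := by
  have h := Subgroup.card_mul_index moN
  rw [mo.index_N, show Nat.card Mo = 177408000 from m_card one_rels] at h
  omega

variable {G : Type} [Group G]

/-- The double cover is not the centraliser of an involution with a commuting conjugate. -/
theorem noOuter_false (t : G) (e : moN →* G) (he : Function.Injective e) (ht : e tN = t)
    (hC : Subgroup.centralizer ({t} : Set G) = e.range)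
    (hp : ∃ g : G, Commute t (g * t * g⁻¹) ∧ g * t * g⁻¹ ≠ t) : False := by
  classical
  obtain ⟨g, hg, hne⟩ := hp
  haveI : Finite Mo := mo.finite
  haveI : Fact (Nat.Prime 2) := ⟨Nat.prime_two⟩
  have hN := mo.normal_N
  obtain ⟨s, hs⟩ : g * t * g⁻¹ ∈ e.range := hC ▸ Subgroup.mem_centralizer_singleton_iff.2 hg.eq.symm
  have htt : (tN : Mo) * tN = 1 := by
    have h4 := mW_of_kW one_rels (u := [0, 0, 0, 0]) (v := []) (by decide) (by simp) (by decide +kernel)
    rw [mW, mW, evalW_cons, evalW_cons, evalW_cons, evalW_cons, evalW_nil, mul_one, ← mul_assoc] at h4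
    exact h4
  have htt' : t * t = 1 := by
    rw [← ht, ← map_mul, show tN * tN = 1 from Subtype.ext htt, map_one]
  have hs1 : s ≠ 1 := by
    rintro rfl
    rw [map_one] at hs
    have : t = 1 := conj_eq_one_iff.1 hs.symm
    exact hne (by rw [this]; group)
  have hs2 : s * s = 1 := he (by
    rw [map_mul, map_one, hs, show g * t * g⁻¹ * (g * t * g⁻¹) = g * (t * t) * g⁻¹ by group, htt']
    group)
  obtain ⟨r, hr5, m, hm⟩ := exists_rep one_rels (s := (s : Mo))
    (fun h => hs1 (Subtype.ext h)) (congrArg Subtype.val hs2)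
  have hr : r < 3 := (rep_mem_iff hr5).1 (hm ▸ hN.conj_mem _ s.2 m)
  have hr0 : r ≠ 0 := by
    rintro rfl
    refine hne ?_
    rw [← hs, ← ht]
    refine congrArg e (Subtype.ext ?_)
    calc (s : Mo) = m⁻¹ * (m * s * m⁻¹) * m := by group
      _ = m⁻¹ * (m * tN) := by rw [hm, ← coe_tN, mul_assoc, (tN_central m).eq]
      _ = tN := by group
  -- the conjugated Sylow subgroup of the centraliser of s, moved into the centraliser of t
  let ψ : sylN →* moN :=
    { toFun := fun x => ⟨m⁻¹ * ((x : moN) : Mo) * m, by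
        simpa using hN.conj_mem _ (x : moN).2 m⁻¹⟩
      map_one' := Subtype.ext (by simp)
      map_mul' := fun x y => Subtype.ext (by simp [mul_assoc]) }
  have hψs : ∀ x, Commute (ψ x) s := by
    intro x
    refine Subtype.ext ?_
    have hc := (rep_central one_rels hr (Subgroup.mem_subgroupOf.1 x.2)).symm.eq
    rw [← hm] at hc
    calc m⁻¹ * ((x : moN) : Mo) * m * s = m⁻¹ * (((x : moN) : Mo) * (m * s * m⁻¹)) * m := by group
      _ = m⁻¹ * (m * s * m⁻¹ * ((x : moN) : Mo)) * m := by rw [hc]
      _ = (s : Mo) * (m⁻¹ * ((x : moN) : Mo) * m) := by group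
  let f : sylN →* G := (MulAut.conj g⁻¹).toMonoidHom.comp (e.comp ψ)
  have hf : ∀ x, f x = g⁻¹ * e (ψ x) * g := fun x => by simp [f]
  have hmem : ∀ x, f x ∈ e.range := by
    intro x
    rw [← hC, Subgroup.mem_centralizer_singleton_iff, hf]
    have hc := ((hψs x).map e).eq
    rw [hs] at hc
    calc g⁻¹ * e (ψ x) * g * t = g⁻¹ * (e (ψ x) * (g * t * g⁻¹)) * g := by group
      _ = g⁻¹ * (g * t * g⁻¹ * e (ψ x)) * g := by rw [hc]
      _ = t * (g⁻¹ * e (ψ x) * g) := by group
  let φ : sylN →* moN := (MonoidHom.ofInjective he).symm.toMonoidHom.comp (f.codRestrict e.range hmem)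
  have hφe : ∀ x, e (φ x) = g⁻¹ * e (ψ x) * g := fun x =>
    (MonoidHom.apply_ofInjective_symm he ⟨f x, hmem x⟩).trans (hf x)
  have hφ : Function.Injective φ := by
    intro x y h
    have h' := congrArg e h
    rw [hφe, hφe, mul_left_inj, mul_right_inj] at h'
    have h2 := congrArg Subtype.val (he h')
    exact Subtype.ext (Subtype.ext (mul_left_cancel (mul_right_cancel h2)))
  have hP : Nat.card sylN = 2 ^ (Nat.card moN).factorization 2 := by
    rw [card_sylN, card_moN, Nat.factorization_mul (by norm_num) (by norm_num), Finsupp.add_apply,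
      Nat.Prime.factorization_pow Nat.prime_two,
      Nat.factorization_eq_zero_of_not_dvd (show ¬ (2 : ℕ) ∣ 86625 by norm_num)]
    simp
  have hR : Nat.card φ.range = 2 ^ (Nat.card moN).factorization 2 := by
    rw [← Nat.card_congr (MonoidHom.ofInjective hφ).toEquiv, hP]
  obtain ⟨u, hu⟩ := MulAction.exists_smul_eq moN (Sylow.ofCard _ hR) (Sylow.ofCard _ hP)
  have hu' : MulAut.conj u • φ.range = sylN := by
    have := congrArg (fun P : Sylow 2 moN => (P : Subgroup moN)) hu
    simp only [Sylow.smul_def, Sylow.pointwise_smul_def] at this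
    exact this
  have hmem' : ∀ x : sylN, u * φ x * u⁻¹ ∈ sylN := fun x => by
    have h : MulAut.conj u • φ x ∈ MulAut.conj u • φ.range :=
      Subgroup.smul_mem_pointwise_smul _ _ _ ⟨x, rfl⟩
    exact SetLike.le_def.1 hu'.le h
  let F : sylN → sylN := fun x => ⟨u * φ x * u⁻¹, hmem' x⟩
  have hF : Function.Bijective F :=
    Finite.injective_iff_bijective.1 fun x y h =>
      hφ (mul_left_cancel (mul_right_cancel (congrArg Subtype.val h)))
  have hsq : ∀ x : sylN, ((x : moN) : Mo) * ((x : moN) : Mo) = rep (1 : Unit) 1 1 r ↔ φ x * φ x = tN := by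
    intro x
    rw [← he.eq_iff, map_mul, hφe, ht, ← hm]
    calc ((x : moN) : Mo) * ((x : moN) : Mo) = m * s * m⁻¹ ↔ ψ x * ψ x = s := by
          rw [← Subtype.coe_inj (b := s)]
          show _ ↔ m⁻¹ * ((x : moN) : Mo) * m * (m⁻¹ * ((x : moN) : Mo) * m) = s
          constructor
          · intro h
            calc _ = m⁻¹ * (((x : moN) : Mo) * ((x : moN) : Mo)) * m := by group
              _ = s := by rw [h]; group
          · intro h
            rw [← h]; group
      _ ↔ e (ψ x) * e (ψ x) = g * t * g⁻¹ := by rw [← map_mul e, ← hs, he.eq_iff]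
      _ ↔ g⁻¹ * e (ψ x) * g * (g⁻¹ * e (ψ x) * g) = t := by
          constructor
          · intro h
            calc _ = g⁻¹ * (e (ψ x) * e (ψ x)) * g := by group
              _ = t := by rw [h]; group
          · intro h
            rw [← h]; group
  have hroots : Nat.card {x : sylN // ((x : moN) : Mo) * ((x : moN) : Mo) = rep (1 : Unit) 1 1 r} =
      Nat.card {x : sylN // ((x : moN) : Mo) * ((x : moN) : Mo) = rep (1 : Unit) 1 1 0} := by
    refine Nat.card_congr ((Equiv.ofBijective F hF).subtypeEquiv fun x => ?_)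
    rw [hsq, ← coe_tN]
    show _ ↔ ((u * φ x * u⁻¹ : moN) : Mo) * (u * φ x * u⁻¹ : moN) = tN
    rw [← Subgroup.coe_mul, Subtype.coe_inj,
      show u * φ x * u⁻¹ * (u * φ x * u⁻¹) = u * (φ x * φ x) * u⁻¹ by group]
    have hcu : Commute u tN := Subtype.ext (tN_central (u : Mo)).eq
    constructor
    · intro h; rw [h, hcu.eq, mul_inv_cancel_right]
    · intro h
      calc φ x * φ x = u⁻¹ * (u * (φ x * φ x) * u⁻¹) * u := by group
        _ = tN := by rw [h, mul_assoc, ← hcu.eq, inv_mul_cancel_left]
  rw [card_rootsN hr, card_rootsN (by decide), even_checks.2.1] at hroots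
  obtain rfl | rfl : r = 1 ∨ r = 2 := by omega
  · rw [even_checks.2.2.1] at hroots; omega
  · rw [even_checks.2.2.2.1] at hroots; omega

end CfsgLib.HNStd.Fused
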