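import Cfsg.Agent.Lib.HNRec.Fusion.Reduce
import Cfsg.Agent.Lib.HNRec.Fusion.OpenGlue

/-!
# The exchange from a commuting pair
-/

set_option autoImplicit false

namespace CfsgLib.HNStd.Fused

open CfsgLib.HNRec CfsgLib.HNRec.Fusion

variable {G : Type} [Group G] {t a b c : G}

/-- With coordinates and a commuting conjugate of `t`, some element exchanges `t` and `c`. -/
theorem exchange_of_pair [Finite G] (hK : Coord t a b c)
    (hp : ∃ g : G, Commute t (g * t * g⁻¹) ∧ g * t * g⁻¹ ≠ t) : Exchange t c := by
  rcases fused_cases_of_fused hK (exists_fused_of_pair hK hp) with h | ⟨hc, h1, h4⟩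
  · exact exchange_of_fused hK h
  · exact (open_false hK hc h1 h4).elim

end CfsgLib.HNStd.Fused
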