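import Mathlib

/-!
# A transfer to a group containing the centraliser of an involution

`k` is a square root of the involution `z`, a character of `Y ≥ C(z)` is non-trivial at `k`, the conjugates
of `z` in the kernel of the character are conjugate in `Y`, and a subgroup of `C(z)` of index not divisible
by four contains a root of `z`: then the transfer of the character is non-trivial at `k`.
-/

set_option autoImplicit false
set_option linter.style.haveILetI false

namespace CfsgLib.HNStd.TransferKill

open MulAction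

variable {G : Type*} [Group G] {Y : Subgroup G} (χ : Y →* ℤˣ) (z : G)

/-- The conjugate of `z` by a representative lies in `Y`, outside the kernel. -/
def Outer (g : G) : Prop := ∃ h : g⁻¹ * z * g ∈ Y, χ ⟨_, h⟩ = -1

variable {χ z}

theorem outer_mul_right {g y : G} (hy : y ∈ Y) (h : Outer χ z g) : Outer χ z (g * y) := by
  obtain ⟨h, e⟩ := h
  have e1 : (g * y)⁻¹ * z * (g * y) = y⁻¹ * (g⁻¹ * z * g) * y := by group
  have hm : (g * y)⁻¹ * z * (g * y) ∈ Y := e1 ▸ mul_mem (mul_mem (inv_mem hy) h) hy
  refine ⟨hm, ?_⟩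
  rw [show (⟨_, hm⟩ : Y) = ⟨y, hy⟩⁻¹ * ⟨_, h⟩ * ⟨y, hy⟩ from Subtype.ext e1, map_mul, map_mul, map_inv,
    mul_comm, mul_inv_cancel_left, e]

theorem outer_mul_left {g c : G} (hc : Commute c z) (h : Outer χ z g) : Outer χ z (c * g) := by
  have e1 : (c * g)⁻¹ * z * (c * g) = g⁻¹ * z * g := by
    calc (c * g)⁻¹ * z * (c * g) = g⁻¹ * (c⁻¹ * (z * c)) * g := by group
      _ = g⁻¹ * z * g := by rw [← hc.eq, inv_mul_cancel_left]
  obtain ⟨h, e⟩ := h
  exact ⟨e1 ▸ h, by rw [← e]; exact congrArg χ (Subtype.ext e1)⟩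

theorem outer_out (g : G) : Outer χ z (g : G ⧸ Y).out ↔ Outer χ z g := by
  have hy : g⁻¹ * (g : G ⧸ Y).out ∈ Y :=
    QuotientGroup.eq.1 (QuotientGroup.out_eq' (g : G ⧸ Y)).symm
  constructor
  · intro h
    simpa using outer_mul_right (inv_mem hy) h
  · intro h
    simpa using outer_mul_right hy h

theorem outer_smul {c : G} (hc : Commute c z) {x : G ⧸ Y} (h : Outer χ z x.out) :
    Outer χ z (c • x).out := by
  induction x using QuotientGroup.induction_on with
  | _ g => exact (outer_out (c * g)).2 (outer_mul_left hc ((outer_out g).1 h))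

variable [Finite G]

/-- Four divides the number of the outer cosets. -/
theorem four_dvd_outer (hroot : ∀ M : Subgroup G, M ≤ Subgroup.centralizer {z} →
      ¬ 4 ∣ M.relIndex (Subgroup.centralizer {z}) → ∃ x ∈ M, x * x = z) :
    4 ∣ Nat.card {x : G ⧸ Y // Outer χ z x.out} := by
  classical
  let C := Subgroup.centralizer ({z} : Set G)
  have hstab : ∀ (c : C) (x : G ⧸ Y), Outer χ z x.out → Outer χ z ((c : G) • x).out := by
    intro c x hx
    exact outer_smul (Subgroup.mem_centralizer_singleton_iff.1 c.2) hx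
  letI : MulAction C {x : G ⧸ Y // Outer χ z x.out} :=
    { smul := fun c x => ⟨(c : G) • x.1, hstab c x.1 x.2⟩
      one_smul := fun x => Subtype.ext (one_smul G x.1)
      mul_smul := fun c d x => Subtype.ext (mul_smul (c : G) (d : G) x.1) }
  have key : ∀ x : {x : G ⧸ Y // Outer χ z x.out}, 4 ∣ (stabilizer C x).index := by
    intro x
    by_contra h4
    have hle : (stabilizer C x).map C.subtype ≤ C := Subgroup.map_subtype_le _
    obtain ⟨r, hr, hrr⟩ := hroot _ hle (by
      rw [Subgroup.relIndex, Subgroup.subgroupOf, Subgroup.comap_map_eq_self_of_injective C.subtype_injective]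
      exact h4)
    obtain ⟨c, hc, rfl⟩ := hr
    have hx : (c : G) • x.1 = x.1 := congrArg Subtype.val (mem_stabilizer_iff.1 hc)
    obtain ⟨hm, e⟩ := x.2
    have hg : x.1.out⁻¹ * c * x.1.out ∈ Y := by
      rw [mul_assoc, ← QuotientGroup.eq]
      conv_rhs => rw [show ((c : G) * x.1.out : G ⧸ Y) = (c : G) • ((x.1.out : G) : G ⧸ Y) from rfl,
        QuotientGroup.out_eq', hx]
      exact QuotientGroup.out_eq' _
    have hsq : (⟨_, hm⟩ : Y) = ⟨_, hg⟩ * ⟨_, hg⟩ := Subtype.ext (by
      show x.1.out⁻¹ * z * x.1.out = x.1.out⁻¹ * c * x.1.out * (x.1.out⁻¹ * c * x.1.out)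
      refine (congrArg (fun w : G => x.1.out⁻¹ * w * x.1.out) hrr.symm).trans ?_
      simp only [Subgroup.coe_subtype]
      group)
    rw [hsq, map_mul, Int.units_mul_self] at e
    exact absurd e (by decide)
  haveI : Fintype (orbitRel.Quotient C {x : G ⧸ Y // Outer χ z x.out}) := Fintype.ofFinite _
  rw [Nat.card_congr (selfEquivSigmaOrbits C _), Nat.card_sigma]
  refine Finset.dvd_sum fun q _ => ?_
  rw [Nat.card_coe_set_eq, ← index_stabilizer]
  exact key _

/-- The transfer kill. -/
theorem transfer_false [IsSimpleGroup G] (hna : ¬ IsMulCommutative G) (χ : Y →* ℤˣ) {z k : G}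
    (hkk : k * k = z) (hzz : z * z = 1) (hC : Subgroup.centralizer {z} ≤ Y)
    (hk : ∀ h : k ∈ Y, χ ⟨k, h⟩ = -1)
    (hfus : ∀ g : G, ∀ h : g⁻¹ * z * g ∈ Y, χ ⟨_, h⟩ = 1 → ∃ y ∈ Y, y * z * y⁻¹ = g⁻¹ * z * g)
    (hroot : ∀ M : Subgroup G, M ≤ Subgroup.centralizer {z} →
      ¬ 4 ∣ M.relIndex (Subgroup.centralizer {z}) → ∃ x ∈ M, x * x = z) : False := by
  classical
  haveI := Fintype.ofFinite G
  haveI : Fintype (G ⧸ Y) := Fintype.ofFinite _
  haveI : Fintype (Quotient (orbitRel (Subgroup.zpowers k) (G ⧸ Y))) := Fintype.ofFinite _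
  have hkC : k ∈ Subgroup.centralizer ({z} : Set G) :=
    Subgroup.mem_centralizer_singleton_iff.2 (by rw [← hkk, mul_assoc])
  have hkY : k ∈ Y := hC hkC
  have hk4 : k ^ 4 = 1 := by rw [show k ^ 4 = k * k * (k * k) by simp [pow_succ, mul_assoc], hkk, hzz]
  -- the value at each orbit
  set base : G ⧸ Y := ((1 : G) : G ⧸ Y) with hbase
  have hfix : ∀ x : G ⧸ Y, k • x = x → x = base := by
    intro x hx
    set g := x.out with hg
    have hgk : g⁻¹ * k * g ∈ Y := by
      rw [mul_assoc, ← QuotientGroup.eq]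
      conv_rhs => rw [show ((k * g : G) : G ⧸ Y) = k • ((g : G) : G ⧸ Y) from rfl, hg,
        QuotientGroup.out_eq', hx]
      exact QuotientGroup.out_eq' _
    have e1 : g⁻¹ * z * g = g⁻¹ * k * g * (g⁻¹ * k * g) := by rw [← hkk]; group
    have hm : g⁻¹ * z * g ∈ Y := e1 ▸ mul_mem hgk hgk
    obtain ⟨y, hy, ey⟩ := hfus g hm (by
      rw [show (⟨_, hm⟩ : Y) = ⟨_, hgk⟩ * ⟨_, hgk⟩ from Subtype.ext e1, map_mul, Int.units_mul_self])
    have hgy : g * y ∈ Y := hC (Subgroup.mem_centralizer_singleton_iff.2 (by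
      calc g * y * z = g * (y * z * y⁻¹) * y := by group
        _ = z * (g * y) := by rw [ey]; group))
    rw [← QuotientGroup.out_eq' x, hbase, QuotientGroup.eq, mul_one, ← hg]
    simpa using inv_mem (mul_mem hgy (inv_mem hy))
  have hbfix : k • base = base := by
    rw [hbase]
    show ((k * 1 : G) : G ⧸ Y) = _
    rw [QuotientGroup.eq]
    simpa using hkY
  have hzc : ∀ x : G ⧸ Y, k • k • x = z • x := fun x => by rw [← mul_smul, hkk]
  have hzfix : ∀ x : G ⧸ Y, Outer χ z x.out → z • x = x := by
    intro x h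
    obtain ⟨hm, -⟩ := h
    conv_lhs => rw [← QuotientGroup.out_eq' x]
    show ((z * x.out : G) : G ⧸ Y) = x
    conv_rhs => rw [← QuotientGroup.out_eq' x]
    rw [QuotientGroup.eq]
    simpa [mul_assoc] using inv_mem hm
  have hper : ∀ x : G ⧸ Y, Outer χ z x.out → Function.minimalPeriod (k • ·) x = 2 := by
    intro x h
    refine Function.minimalPeriod_eq_prime (p := 2) ?_ ?_
    · show (k • ·)^[2] x = x
      simpa [hzc] using hzfix x h
    · intro e
      rw [hfix x e] at h
      obtain ⟨hm, e'⟩ := h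
      have ho : (base.out : G) ∈ Y := by
        have := QuotientGroup.eq.1 (QuotientGroup.out_eq' base)
        simpa using inv_mem this
      rw [show (⟨_, hm⟩ : Y) = ⟨_, ho⟩⁻¹ * (⟨k, hkY⟩ * ⟨k, hkY⟩) * ⟨_, ho⟩ from
        Subtype.ext (by simp [hkk]), map_mul, map_mul, map_inv, map_mul, hk hkY] at e'
      simp at e'
  set T : Finset (Quotient (orbitRel (Subgroup.zpowers k) (G ⧸ Y))) :=
    Finset.univ.filter fun q => Outer χ z q.out.out with hT
  set b : Quotient (orbitRel (Subgroup.zpowers k) (G ⧸ Y)) := Quotient.mk'' base with hb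
  have horb : ∀ x : G ⧸ Y, k • x = x → orbit (Subgroup.zpowers k) x = {x} := by
    intro x hx
    refine Set.eq_singleton_iff_unique_mem.2 ⟨mem_orbit_self x, ?_⟩
    rintro _ ⟨⟨_, i, rfl⟩, rfl⟩
    exact mem_fixedBy.1 (mem_fixedBy_zpow (mem_fixedBy.2 hx) i)
  have hbout : b.out = base := by
    have h : b.out ∈ orbit (Subgroup.zpowers k) base := orbitRel_apply.1 (Quotient.exact' (Quotient.out_eq' b))
    rw [horb base hbfix] at h
    exact h
  have hval : ∀ q : Quotient (orbitRel (Subgroup.zpowers k) (G ⧸ Y)),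
      χ ⟨q.out.out⁻¹ * k ^ Function.minimalPeriod (k • ·) q.out * q.out.out,
        QuotientGroup.out_conj_pow_minimalPeriod_mem Y k q.out⟩ =
      (if q = b then -1 else 1) * if q ∈ T then -1 else 1 := by
    intro q
    have hdvd : Function.minimalPeriod (k • ·) q.out ∣ 4 := by
      refine Function.IsPeriodicPt.minimalPeriod_dvd ?_
      show (k • ·)^[4] q.out = q.out
      rw [smul_iterate_apply, hk4, one_smul]
    have h4 : Function.minimalPeriod (k • ·) q.out ≤ 4 := Nat.le_of_dvd (by norm_num) hdvd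
    by_cases hqb : q = b
    · subst hqb
      have h1 : Function.minimalPeriod (k • ·) b.out = 1 :=
        Function.minimalPeriod_eq_one_iff_isFixedPt.2 (by rw [hbout]; exact hbfix)
      have hnT : b ∉ T := fun h => by
        have := hper _ (Finset.mem_filter.1 h).2
        omega
      have ho : (b.out.out : G) ∈ Y := by
        rw [hbout]
        simpa using inv_mem (QuotientGroup.eq.1 (QuotientGroup.out_eq' base))
      rw [if_pos rfl, if_neg hnT, mul_one]
      rw [show (⟨_, QuotientGroup.out_conj_pow_minimalPeriod_mem Y k b.out⟩ : Y) =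
        ⟨_, ho⟩⁻¹ * ⟨k, hkY⟩ * ⟨_, ho⟩ from Subtype.ext (by simp [h1]), map_mul, map_mul, map_inv, hk hkY,
        mul_comm, mul_inv_cancel_left]
    rw [if_neg hqb, one_mul]
    have hne1 : Function.minimalPeriod (k • ·) q.out ≠ 1 := fun h => by
      apply hqb
      rw [← Quotient.out_eq' q, hb, hfix _ (Function.minimalPeriod_eq_one_iff_isFixedPt.1 h)]
    by_cases hqT : q ∈ T
    · rw [if_pos hqT]
      have h2 := hper _ (Finset.mem_filter.1 hqT).2
      obtain ⟨hm, e⟩ := (Finset.mem_filter.1 hqT).2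
      rw [← e]
      exact congrArg χ (Subtype.ext (by simp [h2, pow_two, hkk]))
    · rw [if_neg hqT]
      have key : ∀ l : ℕ, ∀ h : q.out.out⁻¹ * k ^ l * q.out.out ∈ Y, l ∣ 4 → l ≠ 1 →
          χ ⟨_, h⟩ = 1 := by
        intro l hl hdvd hne1
        have h4 : l ≤ 4 := Nat.le_of_dvd (by norm_num) hdvd
        interval_cases l
        · simp at hdvd
        · exact absurd rfl hne1
        · have hm : q.out.out⁻¹ * z * q.out.out ∈ Y := by rwa [pow_two, hkk] at hl
          rcases Int.units_eq_one_or (χ ⟨_, hm⟩) with e | e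
          · rw [← e]
            exact congrArg χ (Subtype.ext (by simp [pow_two, hkk]))
          · exact absurd (Finset.mem_filter.2 ⟨Finset.mem_univ q, hm, e⟩) hqT
        · omega
        · exact (congrArg χ (Subtype.ext (by simp [hk4]) : (⟨_, hl⟩ : Y) = 1)).trans (map_one χ)
      exact key _ _ hdvd hne1
  have hTeven : Even T.card := by
    have h4 : 4 ∣ Nat.card {x : G ⧸ Y // Outer χ z x.out} := four_dvd_outer hroot
    have hsum : Nat.card {x : G ⧸ Y // Outer χ z x.out} = 2 * T.card := by
      rw [Nat.card_eq_fintype_card, Fintype.card_subtype,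
        Finset.card_eq_sum_card_fiberwise (t := T)
          (f := fun x => (Quotient.mk'' x : Quotient (orbitRel (Subgroup.zpowers k) (G ⧸ Y)))) ?_]
      · rw [Finset.sum_const_nat (m := 2), mul_comm]
        intro q hq
        have h2 := hper _ (Finset.mem_filter.1 hq).2
        rw [← h2, minimalPeriod_eq_card, ← Nat.card_eq_fintype_card, Nat.card_coe_set_eq,
          ← Set.ncard_coe_finset]
        congr 1
        ext x
        simp only [Finset.coe_filter, Set.mem_ofPred_eq]
        constructor
        · rintro ⟨-, hx⟩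
          exact orbitRel_apply.1 (Quotient.exact' (hx.trans (Quotient.out_eq' q).symm))
        · intro hx
          refine ⟨?_, (Quotient.sound' (orbitRel_apply.2 hx)).trans (Quotient.out_eq' q)⟩
          obtain ⟨⟨_, i, rfl⟩, rfl⟩ := hx
          refine Finset.mem_filter.2 ⟨Finset.mem_univ _, ?_⟩
          show Outer χ z ((k ^ i : G) • q.out).out
          exact outer_smul ((show Commute k z from Subgroup.mem_centralizer_singleton_iff.1 hkC).zpow_left i)
            (Finset.mem_filter.1 hq).2
      · intro x hx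
        simp only [Finset.coe_filter, Finset.mem_univ, true_and, Set.mem_ofPred_eq] at hx
        simp only [hT, Finset.coe_filter, Finset.mem_univ, true_and, Set.mem_ofPred_eq]
        have h : (Quotient.mk'' x : Quotient (orbitRel (Subgroup.zpowers k) (G ⧸ Y))).out ∈
            orbit (Subgroup.zpowers k) x :=
          orbitRel_apply.1 (Quotient.exact' (Quotient.out_eq' _))
        obtain ⟨⟨_, i, rfl⟩, hi⟩ := h
        rw [← hi]
        exact outer_smul ((show Commute k z from Subgroup.mem_centralizer_singleton_iff.1 hkC).zpow_left i) hx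
    rw [even_iff_two_dvd]
    omega
  have hV : MonoidHom.transfer χ k = -1 := by
    rw [MonoidHom.transfer_eq_prod_quotient_orbitRel_zpowers_quot, Finset.prod_congr rfl fun q _ => hval q,
      Finset.prod_mul_distrib, Finset.prod_ite_eq' Finset.univ b, if_pos (Finset.mem_univ _),
      Finset.prod_ite_mem, Finset.univ_inter, Finset.prod_const, hTeven.neg_one_pow, mul_one]
  rcases ((MonoidHom.transfer χ).normal_ker).eq_bot_or_eq_top with e | e
  · refine hna ⟨⟨fun x y => (MonoidHom.ker_eq_bot_iff _).1 e ?_⟩⟩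
    rw [map_mul, map_mul, mul_comm]
  · have : k ∈ (MonoidHom.transfer χ).ker := e ▸ Subgroup.mem_top k
    rw [MonoidHom.mem_ker, hV] at this
    exact absurd this (by decide)

end CfsgLib.HNStd.TransferKill
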